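import Cfsg.Agent.H161.G2Emb
import Cfsg.Agent.H638.G2Iso

/-!
# `G₂(5)`: no element of order 5 commutes with an element of order 8 (helper347, argument of helper157, for S5745)
-/

set_option autoImplicit false

namespace Cfsg.Agent.H347.EPX.OctFive

open Cfsg.Lie Cfsg.Agent.H161.Oct

variable {K : Type*} [Field K]

theorem nondeg {x : V K} (h : ∀ y, bl x y = 0) : x = 0 := by
  have h0 := h (Pi.single 0 1)
  have h1 := h (Pi.single 1 1)
  have h2 := h (Pi.single 2 1)
  have h3 := h (Pi.single 3 1)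
  have h4 := h (Pi.single 4 1)
  have h5 := h (Pi.single 5 1)
  have h6 := h (Pi.single 6 1)
  have h7 := h (Pi.single 7 1)
  simp [bl] at h0 h1 h2 h3 h4 h5 h6 h7
  exact ext8 h7 h4 h5 h6 h1 h2 h3 h0

theorem mul_conj (x w : V K) : zornMul (zornMul x w) (tr w • o - w) = nm w • x := by
  apply ext8 <;> simp only [mul0, mul1, mul2, mul3, mul4, mul5, mul6, mul7, Pi.sub_apply,
    Pi.smul_apply, smul_eq_mul, o0, o1, o2, o3, o4, o5, o6, o7, tr, nm] <;> ring

theorem zero_zmul (w : V K) : zornMul 0 w = 0 := by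
  have := zsmul_mul (0 : K) 0 w
  rwa [zero_smul, zero_smul] at this

theorem mul_inj {x w : V K} (hw : nm w ≠ 0) (h : zornMul x w = 0) : x = 0 := by
  have h1 := mul_conj x w
  rw [h, zero_zmul] at h1
  rcases smul_eq_zero.1 h1.symm with h2 | h2
  · exact absurd h2 hw
  · exact h2

theorem bl_self (x : V K) : bl x x = 2 * nm x := by simp only [bl, nm]; ring

section main

variable {t y : V K ≃ₗ[K] V K} (ht : t ∈ AutO K) (hy : y ∈ AutO K)

/-- the eigenspace -/
def E (f : V K ≃ₗ[K] V K) (c : K) : Submodule K (V K) where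
  carrier := {v | f v = c • v}
  zero_mem' := by show f 0 = c • 0; rw [map_zero, smul_zero]
  add_mem' {a b} ha hb := by
    show f (a + b) = c • (a + b)
    rw [map_add, smul_add, show f a = c • a from ha, show f b = c • b from hb]
  smul_mem' r a ha := by
    show f (r • a) = c • r • a
    rw [map_smul, show f a = c • a from ha, smul_comm]

theorem mem_E {f : V K ≃ₗ[K] V K} {c : K} {v : V K} : v ∈ E f c ↔ f v = c • v := Iff.rfl

/-- an involution `z ≠ 1` : there is a nonsingular vector in `V-` -/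
theorem exists_ns (h2 : (2 : K) ≠ 0) {z : V K ≃ₗ[K] V K} (hz : z ∈ AutO K) (hz2 : z ^ 2 = 1) (hz1 : z ≠ 1) :
    ∃ w, z w = -w ∧ nm w ≠ 0 := by
  by_contra hcon
  push Not at hcon
  apply hz1
  have hzz : ∀ v, z (z v) = v := by
    intro v
    have := congrArg (fun f : V K ≃ₗ[K] V K => f v) hz2
    rw [pow_two] at this
    exact this
  -- every vector of `V-` is zero
  have key : ∀ w, z w = -w → w = 0 := by
    intro w hw
    apply nondeg
    intro v
    have h3 : bl w (v + z v) = 0 := by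
      have h4 := map_bl hz w (v + z v)
      rw [hw, map_add, hzz, add_comm (z v) v] at h4
      have h5 : bl (-w) (v + z v) = - bl w (v + z v) := by
        have := bl_smul' (-1 : K) w (v + z v)
        rwa [neg_one_smul, neg_one_mul] at this
      rw [h5] at h4
      have h6 : 2 * bl w (v + z v) = 0 := by linear_combination -h4
      exact (mul_eq_zero.1 h6).resolve_left h2
    have h4 : bl w (v - z v) = 0 := by
      have h5 := nm_add w (v - z v)
      rw [hcon w hw, hcon (v - z v) (by rw [map_sub, hzz, neg_sub]), hcon (w + (v - z v)) (by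
        rw [map_add, hw, map_sub, hzz]; abel)] at h5
      linear_combination -h5
    have h5 : bl w ((2 : K) • v) = 0 := by
      have h6 : (2 : K) • v = (v + z v) + (v - z v) := by rw [two_smul]; abel
      rw [h6, bl_add, h3, h4, add_zero]
    rw [bl_smul] at h5
    exact (mul_eq_zero.1 h5).resolve_left h2
  apply LinearEquiv.ext
  intro v
  have h3 := key (v - z v) (by rw [map_sub, hzz, neg_sub])
  rw [sub_eq_zero] at h3
  exact h3.symm

theorem finrank_minus (h2 : (2 : K) ≠ 0) {z : V K ≃ₗ[K] V K} (hz : z ∈ AutO K) {w : V K} (hw : z w = -w)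
    (hn : nm w ≠ 0) : Module.finrank K (E z (-1)) ≤ 4 := by
  -- right multiplication maps `V-` into `V+`
  let R : V K →ₗ[K] V K :=
    { toFun := fun x => zornMul x w
      map_add' := fun x x' => zadd_mul x x' w
      map_smul' := fun c x => zsmul_mul c x w }
  have hR : Function.Injective R := by
    rw [← LinearMap.ker_eq_bot, LinearMap.ker_eq_bot']
    intro x hx
    exact mul_inj hn hx
  have h1 : (E z (-1)).map R ≤ E z 1 := by
    rintro _ ⟨v, hv, rfl⟩
    rw [mem_E, one_smul]
    show z (zornMul v w) = zornMul v w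
    rw [mem_AutO.1 hz, show z v = (-1 : K) • v from hv, hw, ← neg_one_smul K w, zsmul_mul, zmul_smul, smul_smul]
    norm_num
  have h3 : Module.finrank K (E z (-1)) ≤ Module.finrank K (E z 1) := by
    rw [(Submodule.equivMapOfInjective R hR (E z (-1))).finrank_eq]
    exact Submodule.finrank_mono h1
  have h4 : E z (-1) ⊓ E z 1 = ⊥ := by
    rw [Submodule.eq_bot_iff]
    rintro v ⟨hv1, hv2⟩
    have h5 : z v = (-1 : K) • v := hv1
    have h6 : z v = (1 : K) • v := hv2
    rw [h5, neg_one_smul, one_smul] at h6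
    have h7 : (2 : K) • v = 0 := by
      rw [two_smul]
      nth_rw 1 [← h6]
      exact neg_add_cancel v
    rcases smul_eq_zero.1 h7 with h8 | h8
    · exact absurd h8 h2
    · exact h8
  have h5 := Submodule.finrank_sup_add_finrank_inf_eq (E z (-1)) (E z 1)
  rw [h4, finrank_bot, add_zero] at h5
  have h6 : Module.finrank K ↥(E z (-1) ⊔ E z 1) ≤ 8 := by
    refine (Submodule.finrank_le _).trans ?_
    rw [Module.finrank_fin_fun]
  omega

/-- the last nonzero vector -/
theorem exists_fix (hy5 : ((y : V K →ₗ[K] V K) - 1) ^ 5 = 0) (W : Submodule K (V K)) (hW : ∀ v ∈ W, y v ∈ W)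
    {v : V K} (hv : v ∈ W) (hv0 : v ≠ 0) : ∃ a ∈ W, a ≠ 0 ∧ y a = a := by
  have h1 : ∀ k : ℕ, (((y : V K →ₗ[K] V K) - 1) ^ k) v ∈ W := by
    intro k
    induction k with
    | zero => exact hv
    | succ k ih =>
      rw [pow_succ']
      show y ((((y : V K →ₗ[K] V K) - 1) ^ k) v) - (((y : V K →ₗ[K] V K) - 1) ^ k) v ∈ W
      exact W.sub_mem (hW _ ih) ih
  have h2 : ∃ k : ℕ, (((y : V K →ₗ[K] V K) - 1) ^ k) v = 0 := ⟨5, by rw [hy5]; rfl⟩
  classical
  have h3 := Nat.find_spec h2
  have h4 : Nat.find h2 ≠ 0 := by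
    intro h0
    rw [h0] at h3
    exact hv0 h3
  obtain ⟨m, hm⟩ := Nat.exists_eq_succ_of_ne_zero h4
  refine ⟨(((y : V K →ₗ[K] V K) - 1) ^ m) v, h1 m, Nat.find_min h2 (by omega), ?_⟩
  rw [hm, pow_succ'] at h3
  exact sub_eq_zero.1 h3

/-- from `V-` to `V` -/
theorem fix_all (h2 : (2 : K) ≠ 0) {z y : V K ≃ₗ[K] V K} (hz : z ∈ AutO K) (hy : y ∈ AutO K) (hz2 : z ^ 2 = 1) {w : V K}
    (hw : z w = -w) (hn : nm w ≠ 0) (hfix : ∀ v, z v = -v → y v = v) : y = 1 := by
  have hzz : ∀ v, z (z v) = v := by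
    intro v
    have := congrArg (fun f : V K ≃ₗ[K] V K => f v) hz2
    rw [pow_two] at this
    exact this
  have hp : ∀ v, z v = v → y v = v := by
    intro v hv
    have h3 : z (zornMul v w) = - zornMul v w := by
      rw [mem_AutO.1 hz, hv, hw, ← neg_one_smul K w, zmul_smul, neg_one_smul]
    have h4 := hfix _ h3
    rw [mem_AutO.1 hy, hfix w hw] at h4
    have h5 : zornMul (y v - v) w = 0 := by
      have h6 : y v - v = y v + (-1 : K) • v := by rw [neg_one_smul, sub_eq_add_neg]
      rw [h6, zadd_mul, zsmul_mul, h4, neg_one_smul, add_neg_cancel]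
    exact sub_eq_zero.1 (mul_inj hn h5)
  apply LinearEquiv.ext
  intro v
  have h3 : y ((2 : K) • v) = (2 : K) • v := by
    have h6 : (2 : K) • v = (v + z v) + (v - z v) := by rw [two_smul]; abel
    rw [h6, map_add y, hp (v + z v) (by rw [map_add, hzz, add_comm]), hfix (v - z v) (by rw [map_sub, hzz, neg_sub])]
  rw [map_smul] at h3
  have h4 := congrArg (fun x => (2 : K)⁻¹ • x) h3
  simp only [smul_smul, inv_mul_cancel₀ h2, one_smul] at h4
  exact h4

theorem pow_sub_one (Y : V K →ₗ[K] V K) (h5 : (5 : K) = 0) (hY : Y ^ 5 = 1) : (Y - 1) ^ 5 = 0 := by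
  have h1 : (Y - 1) ^ 5 = Y ^ 5 - 1 + 5 • (-Y ^ 4 + 2 * Y ^ 3 - 2 * Y ^ 2 + Y) := by
    have h0 : ((Polynomial.X : Polynomial K) - 1) ^ 5 = Polynomial.X ^ 5 - 1 + 5 • (-Polynomial.X ^ 4 +
        2 * Polynomial.X ^ 3 - 2 * Polynomial.X ^ 2 + Polynomial.X) := by
      rw [nsmul_eq_mul]
      push_cast
      ring
    have h3 := congrArg (Polynomial.aeval (R := K) Y) h0
    simpa only [map_pow, map_sub, map_add, map_neg, map_mul, map_nsmul, map_one, map_ofNat, Polynomial.aeval_X] using h3
  have h2 : ∀ X : V K →ₗ[K] V K, (5 : ℕ) • X = 0 := by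
    intro X
    rw [← Nat.cast_smul_eq_nsmul K]
    have : ((5 : ℕ) : K) = 0 := by exact_mod_cast h5
    rw [this, zero_smul]
  rw [h1, hY, sub_self, zero_add]
  exact h2 _

/-- independence of `a`, `t a` -/
theorem pair {t : V K ≃ₗ[K] V K} {c : K} (hc : ∀ l : K, l * l ≠ c) {a : V K} (ha0 : a ≠ 0) (ha : t (t a) = c • a) :
    LinearIndependent K ![a, t a] := by
  rw [LinearIndependent.pair_iff]
  intro r s hrs
  have hs : s = 0 := by
    by_contra hs
    have h1 : t a = (-(s⁻¹ * r)) • a := by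
      have h2 := congrArg (fun x => s⁻¹ • x) hrs
      simp only [smul_add, smul_smul, inv_mul_cancel₀ hs, one_smul, smul_zero] at h2
      rw [neg_smul]
      exact (neg_eq_of_add_eq_zero_right h2).symm
    rw [h1, map_smul, h1, smul_smul] at ha
    have h3 : (-(s⁻¹ * r) * -(s⁻¹ * r) - c) • a = 0 := by rw [sub_smul, ha, sub_self]
    rcases smul_eq_zero.1 h3 with h4 | h4
    · exact hc _ (sub_eq_zero.1 h4)
    · exact ha0 h4
  rw [hs, zero_smul, add_zero] at hrs
  exact ⟨(smul_eq_zero.1 hrs).resolve_right ha0, hs⟩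

theorem finrank_pair {t : V K ≃ₗ[K] V K} {c : K} (hc : ∀ l : K, l * l ≠ c) {a : V K} (ha0 : a ≠ 0)
    (ha : t (t a) = c • a) : Module.finrank K (Submodule.span K (Set.range ![a, t a])) = 2 := by
  rw [finrank_span_eq_card (pair hc ha0 ha), Fintype.card_fin]

/-- **The lemma for `p = 5`** -/
theorem main_five [Fintype K] (hK : Fintype.card K = 5) {t y : V K ≃ₗ[K] V K} (ht : t ∈ AutO K) (hy : y ∈ AutO K)
    (h8 : t ^ 8 = 1) (h4 : t ^ 4 ≠ 1) (hy5 : y ^ 5 = 1) (hc : t * y = y * t) : y = 1 := by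
  have h5 : (5 : K) = 0 := by
    have := FiniteField.cast_card_eq_zero K
    rw [hK] at this
    exact_mod_cast this
  have h2 : (2 : K) ≠ 0 := by
    intro h0
    have h1 : (1 : K) = 5 - 2 * 2 := by norm_num
    rw [h5, h0] at h1
    simp at h1
  have h3 : (3 : K) ≠ 0 := by
    intro h0
    have h1 : (2 : K) = 5 - 3 := by norm_num
    rw [h5, h0, sub_zero] at h1
    exact h2 h1
  have hpw : ∀ l : K, l ≠ 0 → l ^ 4 = 1 := by
    intro l hl
    have := FiniteField.pow_card_sub_one_eq_one l hl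
    rwa [hK] at this
  have hc2 : ∀ c : K, c * c = 4 → ∀ l : K, l * l ≠ c := by
    intro c hcc l hl
    have hl0 : l ≠ 0 := by
      rintro rfl
      rw [mul_zero] at hl
      rw [← hl, mul_zero] at hcc
      have : (1 : K) = 5 - 4 := by norm_num
      rw [h5, ← hcc] at this
      simp at this
    have h6 := hpw l hl0
    have h7 : l ^ 4 = 4 := by rw [← hcc, ← hl]; ring
    rw [h7] at h6
    apply h3
    linear_combination h6
  have h44 : (4 : K) = -1 := by linear_combination h5
  have hz : t ^ 4 ∈ AutO K := (AutO K).pow_mem ht 4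
  have hz2 : (t ^ 4) ^ 2 = 1 := by rw [← pow_mul]; exact h8
  obtain ⟨w, hw, hn⟩ := exists_ns h2 hz hz2 h4
  have ht4 : ∀ v, (t ^ 4) v = t (t (t (t v))) := fun v => rfl
  have hnm : ∀ v, nm (t (t v)) = nm v := fun v => by rw [map_nm ht, map_nm ht]
  refine fix_all h2 hz hy hz2 hw hn ?_
  have hyn := pow_sub_one (y : V K →ₗ[K] V K) h5 (by
    refine LinearMap.ext fun v => ?_
    have := congrArg (fun f : V K ≃ₗ[K] V K => f v) hy5
    exact this)
  have hcomm : ∀ v, y (t v) = t (y v) := fun v => (congrArg (fun f : V K ≃ₗ[K] V K => f v) hc).symm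
  -- the two vectors
  have key : ∀ c : K, c * c = 4 → ∃ a, a ≠ 0 ∧ y a = a ∧ t (t a) = c • a := by
    intro c hcc
    have hW : ∀ v ∈ E (t ^ 2) c, y v ∈ E (t ^ 2) c := by
      intro v hv
      have hv' : t (t v) = c • v := hv
      show t (t (y v)) = c • y v
      rw [← hcomm, ← hcomm, hv', map_smul]
    have hv : t (t w) + c • w ∈ E (t ^ 2) c := by
      show t (t (t (t w) + c • w)) = c • (t (t w) + c • w)
      rw [map_add, map_add, map_smul, map_smul, ← ht4, hw, smul_add, smul_smul, hcc, h44, neg_one_smul, add_comm]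
    have hv0 : t (t w) + c • w ≠ 0 := by
      intro h0
      have h6 : t (t w) = (-c) • w := by rw [neg_smul]; exact eq_neg_of_add_eq_zero_left h0
      have h7 := hnm w
      rw [h6, nm_smul] at h7
      have h8' : (-c) ^ 2 = -1 := by rw [← h44, ← hcc]; ring
      rw [h8'] at h7
      have h9 : 2 * nm w = 0 := by linear_combination -h7
      exact hn ((mul_eq_zero.1 h9).resolve_left h2)
    obtain ⟨a, haW, ha0, hya⟩ := exists_fix hyn (E (t ^ 2) c) hW hv hv0
    exact ⟨a, ha0, hya, haW⟩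
  obtain ⟨a, ha0, hya, haa⟩ := key 2 (by norm_num)
  obtain ⟨b, hb0, hyb, hbb⟩ := key (-2) (by norm_num)
  have f1 := finrank_pair (hc2 2 (by norm_num)) ha0 haa
  have f2 := finrank_pair (hc2 (-2) (by norm_num)) hb0 hbb
  have hsub : ∀ {c : K} {x : V K} (W : Submodule K (V K)), x ∈ W → t x ∈ W →
      Submodule.span K (Set.range ![x, t x]) ≤ W := by
    intro _ x W h6 h7
    rw [Submodule.span_le]
    rintro _ ⟨i, rfl⟩
    fin_cases i
    · exact h6
    · exact h7
  have g1 : Submodule.span K (Set.range ![a, t a]) ≤ E (t ^ 2) 2 := hsub (c := 0) _ haa (by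
    show t (t (t a)) = (2 : K) • t a
    rw [haa, map_smul])
  have g2 : Submodule.span K (Set.range ![b, t b]) ≤ E (t ^ 2) (-2) := hsub (c := 0) _ hbb (by
    show t (t (t b)) = (-2 : K) • t b
    rw [hbb, map_smul])
  have hinf : Submodule.span K (Set.range ![a, t a]) ⊓ Submodule.span K (Set.range ![b, t b]) = ⊥ := by
    rw [Submodule.eq_bot_iff]
    rintro v ⟨hv1, hv2⟩
    have h6 : (t ^ 2) v = (2 : K) • v := g1 hv1
    have h7 : (t ^ 2) v = (-2 : K) • v := g2 hv2
    rw [h6] at h7
    have h8' : ((2 : K) - (-2)) • v = 0 := by rw [sub_smul, h7, sub_self]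
    rcases smul_eq_zero.1 h8' with h9 | h9
    · exfalso
      have h10 : (1 : K) = 5 - (2 - (-2)) := by norm_num
      rw [h9, h5] at h10
      simp at h10
    · exact h9
  have hsum := Submodule.finrank_sup_add_finrank_inf_eq (Submodule.span K (Set.range ![a, t a]))
    (Submodule.span K (Set.range ![b, t b]))
  rw [hinf, finrank_bot, add_zero, f1, f2] at hsum
  have hE : ∀ c : K, c * c = 4 → E (t ^ 2) c ≤ E (t ^ 4) (-1) := by
    intro c hcc v hv
    have hv' : t (t v) = c • v := hv
    show t (t (t (t v))) = (-1 : K) • v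
    rw [hv', map_smul, map_smul, hv', smul_smul, hcc, h44]
  have hle : Submodule.span K (Set.range ![a, t a]) ⊔ Submodule.span K (Set.range ![b, t b]) ≤ E (t ^ 4) (-1) :=
    sup_le (g1.trans (hE 2 (by norm_num))) (g2.trans (hE (-2) (by norm_num)))
  have heq := Submodule.eq_of_le_of_finrank_le hle (by
    rw [hsum]
    exact finrank_minus h2 hz hw hn)
  have hU : Submodule.span K (Set.range ![a, t a]) ⊔ Submodule.span K (Set.range ![b, t b]) ≤ E y 1 := by
    refine sup_le (hsub (c := 0) _ ?_ ?_) (hsub (c := 0) _ ?_ ?_)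
    · show y a = (1 : K) • a
      rw [one_smul, hya]
    · show y (t a) = (1 : K) • t a
      rw [one_smul, hcomm, hya]
    · show y b = (1 : K) • b
      rw [one_smul, hyb]
    · show y (t b) = (1 : K) • t b
      rw [one_smul, hcomm, hyb]
  intro v hv
  have h6 : v ∈ E (t ^ 4) (-1) := by
    show (t ^ 4) v = (-1 : K) • v
    rw [hv, neg_one_smul]
  rw [← heq] at h6
  have h7 : y v = (1 : K) • v := hU h6
  rwa [one_smul] at h7

end main

/-- **`G₂(5)`**: an element of order 5 does not commute with an element of order 8. -/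
theorem five (F : Type) [Field F] [Fintype F] (hF : Fintype.card F = 5) {t y : ↥(chevG2.group F)} (ht : orderOf t = 8)
    (hy : y ^ 5 = 1) (hc : t * y = y * t) : y = 1 := by
  obtain ⟨e⟩ := Cfsg.Agent.H638.G2Iso.equiv (F := F)
  let f : ↥(chevG2.group F) →* (V F ≃ₗ[F] V F) :=
    ((Cfsg.Agent.H161.Oct.toE F).toMonoidHom.comp (Cfsg.Lie.G2 F).subtype).comp e.symm.toMonoidHom
  have hf : Function.Injective f := by
    intro a b hab
    apply e.symm.injective
    apply Subtype.ext
    exact (Cfsg.Agent.H161.Oct.toE F).injective hab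
  have hm : ∀ x, f x ∈ AutO F := fun x => Cfsg.Agent.H161.Oct.toE_mem.2 (e.symm x).2
  have hpt : ∀ n, f t ^ n = 1 ↔ t ^ n = 1 := by
    intro n
    rw [← map_pow, ← map_one f]
    exact ⟨fun h => hf h, fun h => by rw [h]⟩
  apply hf
  rw [map_one]
  refine main_five hF (hm t) (hm y) ((hpt 8).2 ?_) (fun h4 => ?_) (by rw [← map_pow, hy, map_one]) (by
    rw [← map_mul, ← map_mul, hc])
  · rw [← ht]; exact pow_orderOf_eq_one t
  · have h5 := orderOf_dvd_of_pow_eq_one ((hpt 4).1 h4)
    rw [ht] at h5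
    omega

end Cfsg.Agent.H347.EPX.OctFive
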