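import Cfsg.Agent.H347.EPX.GThreeData
import Cfsg.Agent.H347.EPX.OctFive

/-!
# `G₂(3)`, `G₂(5)`: no element of order `p` commutes with an element of order 8 (helper347, for S5745)

`eight` : `F` with `p` elements, `p = 3` or `p = 5`.
-/

set_option autoImplicit false
set_option maxRecDepth 100000
set_option Elab.async false

namespace Cfsg.Agent.H347.EPX.GThree

open Subgroup Cfsg.Agent.H347.HX Cfsg.Agent.H347.HX.G23

theorem eight_lst : ∀ p ∈ lst, p.1 ^ 8 = 1 → p.1 ^ 4 ≠ 1 → bd p.2.l ≤ 8 := by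
  intro p hp
  have hR := lst_Rp p hp
  simp only [lst, List.mem_cons, List.not_mem_nil, or_false] at hp
  rcases hp with rfl | rfl | rfl | rfl | rfl | rfl | rfl | rfl | rfl | rfl | rfl | rfl | rfl | rfl | rfl | rfl | rfl | rfl | rfl | rfl | rfl | rfl | rfl
  · exact fun _ h => absurd (by rw [wr_nil, one_pow]) h
  all_goals
    first
      | exact fun _ _ => by decide +kernel
      | exact fun h _ => absurd h (pow_ne hR (by decide +kernel))
      | exact fun _ h => absurd (pow_eq_one_of hR (by decide +kernel)) h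

theorem eight_A (t : A) (ht : orderOf t = 8) : Nat.card ↥(centralizer ({t} : Set A)) ≤ 8 := by
  obtain ⟨p, hp, h⟩ := complete hbase ts lst lst_Rp lst_run lst_key lst_sum t
  rw [← card_cent h]
  refine (card_le (lst_Rp p hp) hbase (lst_run p hp)).trans (eight_lst p hp ?_ ?_)
  · obtain ⟨c, rfl⟩ := isConj_iff.1 h
    have h1 := pow_orderOf_eq_one (c * p.1 * c⁻¹)
    rw [ht, conj_pow] at h1
    have h2 : p.1 ^ 8 = c⁻¹ * (c * p.1 ^ 8 * c⁻¹) * c := by group
    rw [h2, h1]; group
  · intro h4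
    obtain ⟨c, rfl⟩ := isConj_iff.1 h
    have h1 : (c * p.1 * c⁻¹) ^ 4 = 1 := by rw [conj_pow, h4]; group
    have h2 := orderOf_dvd_of_pow_eq_one h1
    rw [ht] at h2
    omega

theorem three (F : Type) [Field F] [Fintype F] (hF : Fintype.card F = 3) {t y : ↥(Lie.chevG2.group F)}
    (ht : orderOf t = 8) (hy : y ^ 3 = 1) (hc : t * y = y * t) : y = 1 := by
  classical
  have σ : ZMod 3 ≃+* F := FiniteField.ringEquivOfCardEq (by rw [ZMod.card, hF])
  obtain ⟨e⟩ := iso.2.2
  let f := (e.trans (ChevalleyStructure.FieldIso.groupEquiv Lie.chevG2 σ)).symm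
  have h1 := eight_A (f t) (by rw [MulEquiv.orderOf_eq, ht])
  have h2 : zpowers (f t) ≤ centralizer ({f t} : Set A) := by
    rw [zpowers_le, mem_centralizer_singleton_iff]
  have h3 := Subgroup.eq_of_le_of_card_ge h2 (by rw [Nat.card_zpowers, MulEquiv.orderOf_eq, ht]; exact h1)
  have h4 : f y ∈ zpowers (f t) := by
    rw [h3, mem_centralizer_singleton_iff, ← map_mul, ← map_mul, hc]
  have h5 : orderOf (f y) ∣ 8 := by
    have := Subgroup.orderOf_dvd_natCard _ h4
    rwa [Nat.card_zpowers, MulEquiv.orderOf_eq f t, ht] at this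
  have h6 : orderOf (f y) ∣ 3 := orderOf_dvd_of_pow_eq_one (by rw [← map_pow, hy, map_one])
  have h7 : orderOf (f y) ∣ 1 := by
    exact Nat.dvd_gcd h5 h6
  have h8 := orderOf_eq_one_iff.1 (Nat.dvd_one.1 h7)
  rwa [map_eq_one_iff f f.injective] at h8

end Cfsg.Agent.H347.EPX.GThree

namespace Cfsg.Agent.H347.EPX

/-- **`G₂(3)`, `G₂(5)`** -/
theorem eight (F : Type) [Field F] [Fintype F] {p : ℕ} (hp : p = 3 ∨ p = 5) (hF : Fintype.card F = p)
    {t y : ↥(Lie.chevG2.group F)} (ht : orderOf t = 8) (hy : y ^ p = 1) (hc : t * y = y * t) : y = 1 := by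
  rcases hp with rfl | rfl
  · exact GThree.three F hF ht hy hc
  · exact OctFive.five F hF ht hy hc

end Cfsg.Agent.H347.EPX
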