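import Mathlib

/-!
# The number of involutions of `PSL₂(q)` (helper347, for S5745)

`invol_two` : at most `q ^ 2 - 1` for `q` even; `invol_odd` : twice the number is at most `q ^ 2 + q` for `q` odd.
-/

set_option autoImplicit false

namespace Cfsg.Agent.H347.EPX

open Matrix Matrix.SpecialLinearGroup

variable {F : Type*} [Field F]

/-- the group -/
abbrev P2 (F : Type*) [Field F] : Type _ := Matrix.ProjectiveSpecialLinearGroup (Fin 2) F

/-- lifts of involutions have trace zero -/
theorem trace_zero {A : Matrix.SpecialLinearGroup (Fin 2) F} (h2 : A ^ 2 ∈ Subgroup.center (Matrix.SpecialLinearGroup (Fin 2) F))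
    (h1 : A ∉ Subgroup.center (Matrix.SpecialLinearGroup (Fin 2) F)) : A.1 1 1 = - A.1 0 0 := by
  by_contra hne
  apply h1
  rw [Matrix.SpecialLinearGroup.mem_center_iff] at h2 ⊢
  obtain ⟨r, hr, hA⟩ := h2
  have e : ∀ i j, (Matrix.scalar (Fin 2) r) i j = (A.1 * A.1) i j := by
    intro i j
    rw [hA, pow_two]
    rfl
  have e00 := e 0 0
  have e01 := e 0 1
  have e10 := e 1 0
  have e11 := e 1 1
  simp [Matrix.mul_apply, Fin.sum_univ_two] at e00 e01 e10 e11
  have hs : A.1 0 0 + A.1 1 1 ≠ 0 := fun h => hne (by linear_combination h)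
  have hb : A.1 0 1 = 0 := by
    have : A.1 0 1 * (A.1 0 0 + A.1 1 1) = 0 := by linear_combination -e01
    exact (mul_eq_zero.1 this).resolve_right hs
  have hc : A.1 1 0 = 0 := by
    have : A.1 1 0 * (A.1 0 0 + A.1 1 1) = 0 := by linear_combination -e10
    exact (mul_eq_zero.1 this).resolve_right hs
  have hd : A.1 0 0 = A.1 1 1 := by
    have : (A.1 0 0 - A.1 1 1) * (A.1 0 0 + A.1 1 1) = 0 := by linear_combination e11 - e00
    exact sub_eq_zero.1 ((mul_eq_zero.1 this).resolve_right hs)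
  have hdet := A.2
  rw [Matrix.det_fin_two, hb, hc, ← hd] at hdet
  refine ⟨A.1 0 0, ?_, ?_⟩
  · rw [Fintype.card_fin, pow_two]
    linear_combination hdet
  · ext i j
    fin_cases i <;> fin_cases j <;> simp [hb, hc, hd]

/-- the lift of an involution -/
theorem exists_lift {x : P2 F} (hx : orderOf x = 2) : ∃ A : Matrix.SpecialLinearGroup (Fin 2) F,
    (QuotientGroup.mk A : P2 F) = x ∧ A.1 1 1 = - A.1 0 0 ∧ A ∉ Subgroup.center (Matrix.SpecialLinearGroup (Fin 2) F) := by
  obtain ⟨A, rfl⟩ := QuotientGroup.mk_surjective x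
  have h1 : A ∉ Subgroup.center (Matrix.SpecialLinearGroup (Fin 2) F) := by
    intro h
    rw [(QuotientGroup.eq_one_iff A).2 h, orderOf_one] at hx
    omega
  have h2 : A ^ 2 ∈ Subgroup.center (Matrix.SpecialLinearGroup (Fin 2) F) := by
    rw [← QuotientGroup.eq_one_iff, QuotientGroup.mk_pow]
    have := pow_orderOf_eq_one (QuotientGroup.mk A : P2 F)
    rwa [hx] at this
  exact ⟨A, rfl, trace_zero h2 h1, h1⟩

theorem det_eq {A : Matrix.SpecialLinearGroup (Fin 2) F} (h : A.1 1 1 = - A.1 0 0) :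
    A.1 0 0 * A.1 0 0 + A.1 0 1 * A.1 1 0 = -1 := by
  have hdet := A.2
  rw [Matrix.det_fin_two, h] at hdet
  linear_combination -hdet

theorem ext_of {A B : Matrix.SpecialLinearGroup (Fin 2) F} (hA : A.1 1 1 = - A.1 0 0) (hB : B.1 1 1 = - B.1 0 0)
    (h0 : A.1 0 0 = B.1 0 0) (h1 : A.1 0 1 = B.1 0 1) (h2 : A.1 1 0 = B.1 1 0) : A = B := by
  apply Subtype.ext
  ext i j
  fin_cases i <;> fin_cases j
  · exact h0
  · exact h1
  · exact h2
  · show A.1 1 1 = B.1 1 1
    rw [hA, hB, h0]

/-- **`q` even** -/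
theorem invol_two [Fintype F] [CharP F 2] :
    Nat.card {x : P2 F // orderOf x = 2} ≤ Fintype.card F ^ 2 - 1 := by
  classical
  choose L h1 h2 h3 using fun x : {x : P2 F // orderOf x = 2} => exists_lift x.2
  have hz : ∀ x, ((L x).1 0 1, (L x).1 1 0) ≠ ((0, 0) : F × F) := by
    intro x hx
    have hb : (L x).1 0 1 = 0 := congrArg Prod.fst hx
    have hc : (L x).1 1 0 = 0 := congrArg Prod.snd hx
    apply h3 x
    rw [Matrix.SpecialLinearGroup.mem_center_iff]
    have hd := det_eq (h2 x)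
    rw [hb, zero_mul, add_zero, CharTwo.neg_eq] at hd
    refine ⟨(L x).1 0 0, ?_, ?_⟩
    · rw [Fintype.card_fin, pow_two, hd]
    · have h4 := h2 x
      rw [CharTwo.neg_eq] at h4
      ext i j
      fin_cases i <;> fin_cases j <;> simp [hb, hc, h4]
  let φ : {x : P2 F // orderOf x = 2} → {v : F × F // v ≠ (0, 0)} := fun x => ⟨((L x).1 0 1, (L x).1 1 0), hz x⟩
  have hinj : Function.Injective φ := by
    intro x y hxy
    have hv := congrArg Subtype.val hxy
    have hb : (L x).1 0 1 = (L y).1 0 1 := congrArg Prod.fst hv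
    have hc : (L x).1 1 0 = (L y).1 1 0 := congrArg Prod.snd hv
    have hx := det_eq (h2 x)
    have hy := det_eq (h2 y)
    have ha : (L x).1 0 0 = (L y).1 0 0 := by
      have h4 : ((L x).1 0 0 - (L y).1 0 0) * ((L x).1 0 0 - (L y).1 0 0) = 0 := by
        have h5 : (2 : F) = 0 := CharTwo.two_eq_zero
        rw [hb, hc] at hx
        linear_combination hx - hy + ((L y).1 0 0 * (L y).1 0 0 - (L x).1 0 0 * (L y).1 0 0) * h5
      exact sub_eq_zero.1 (mul_self_eq_zero.1 h4)
    have h4 : L x = L y := ext_of (h2 x) (h2 y) ha hb hc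
    apply Subtype.ext
    rw [← h1 x, ← h1 y, h4]
  have hcard : Nat.card {v : F × F // v ≠ (0, 0)} = Fintype.card F ^ 2 - 1 := by
    rw [Nat.card_eq_fintype_card, Fintype.card_subtype_compl, Fintype.card_prod, pow_two]
    congr 1
  rw [← hcard]
  exact Nat.card_le_card_of_injective φ hinj

/-- the negative -/
def ng (A : Matrix.SpecialLinearGroup (Fin 2) F) : Matrix.SpecialLinearGroup (Fin 2) F :=
  ⟨-A.1, by
    have := A.2
    rw [Matrix.det_neg, Fintype.card_fin, this]; norm_num⟩

theorem ng_mk (A : Matrix.SpecialLinearGroup (Fin 2) F) : (QuotientGroup.mk (ng A) : P2 F) = QuotientGroup.mk A := by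
  rw [QuotientGroup.eq, Matrix.SpecialLinearGroup.mem_center_iff]
  refine ⟨-1, by rw [Fintype.card_fin]; norm_num, ?_⟩
  have h1 : (ng A)⁻¹ * A = ng (1 : Matrix.SpecialLinearGroup (Fin 2) F) := by
    rw [inv_mul_eq_iff_eq_mul]
    apply Subtype.ext
    show A.1 = (-A.1) * (-(1 : Matrix (Fin 2) (Fin 2) F))
    rw [neg_mul_neg, mul_one]
  rw [h1]
  show Matrix.scalar (Fin 2) (-1 : F) = -(1 : Matrix (Fin 2) (Fin 2) F)
  rw [map_neg, map_one]

theorem ng_ng (A : Matrix.SpecialLinearGroup (Fin 2) F) : ng (ng A) = A := Subtype.ext (neg_neg A.1)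

/-- **`q` odd** -/
theorem invol_odd [Fintype F] (h20 : (2 : F) ≠ 0) :
    2 * Nat.card {x : P2 F // orderOf x = 2} ≤ Fintype.card F ^ 2 + Fintype.card F := by
  classical
  choose L h1 h2 h3 using fun x : {x : P2 F // orderOf x = 2} => exists_lift x.2
  obtain ⟨i, hi⟩ : ∃ i : F, ∀ a : F, a * a = -1 → a = i ∨ a = -i := by
    by_cases h : ∃ i : F, i * i = -1
    · obtain ⟨i, hi⟩ := h
      refine ⟨i, fun a ha => ?_⟩
      have : (a - i) * (a + i) = 0 := by linear_combination ha - hi
      rcases mul_eq_zero.1 this with h | h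
      · exact Or.inl (sub_eq_zero.1 h)
      · exact Or.inr (eq_neg_of_add_eq_zero_left h)
    · push Not at h
      exact ⟨0, fun a ha => absurd ha (h a)⟩
  let S := {A : Matrix.SpecialLinearGroup (Fin 2) F // A.1 1 1 = - A.1 0 0}
  let ψ : S → (F × F) ⊕ F := fun A => if A.1.1 0 1 = 0 then (if A.1.1 0 0 = i then Sum.inl (A.1.1 1 0, 0) else
    Sum.inr (A.1.1 1 0)) else Sum.inl (A.1.1 0 0, A.1.1 0 1)
  have e1 : ∀ A : S, A.1.1 0 1 = 0 → A.1.1 0 0 = i → ψ A = Sum.inl (A.1.1 1 0, 0) := fun A h h' => by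
    simp only [ψ]; rw [if_pos h, if_pos h']
  have e2 : ∀ A : S, A.1.1 0 1 = 0 → A.1.1 0 0 ≠ i → ψ A = Sum.inr (A.1.1 1 0) := fun A h h' => by
    simp only [ψ]; rw [if_pos h, if_neg h']
  have e3 : ∀ A : S, A.1.1 0 1 ≠ 0 → ψ A = Sum.inl (A.1.1 0 0, A.1.1 0 1) := fun A h => by
    simp only [ψ]; rw [if_neg h]
  have er : ∀ A : S, A.1.1 0 1 = 0 → A.1.1 0 0 ≠ i → A.1.1 0 0 = -i := by
    intro A h h'
    have dA := det_eq A.2
    rw [h, zero_mul, add_zero] at dA
    exact (hi _ dA).resolve_left h'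
  have hψ : Function.Injective ψ := by
    intro A B h
    apply Subtype.ext
    by_cases p1 : A.1.1 0 1 = 0
    · by_cases p2 : A.1.1 0 0 = i
      · rw [e1 A p1 p2] at h
        by_cases p3 : B.1.1 0 1 = 0
        · by_cases p4 : B.1.1 0 0 = i
          · rw [e1 B p3 p4, Sum.inl.injEq, Prod.mk.injEq] at h
            exact ext_of A.2 B.2 (by rw [p2, p4]) (by rw [p1, p3]) h.1
          · rw [e2 B p3 p4] at h
            cases h
        · rw [e3 B p3, Sum.inl.injEq, Prod.mk.injEq] at h
          exact absurd h.2.symm p3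
      · rw [e2 A p1 p2] at h
        by_cases p3 : B.1.1 0 1 = 0
        · by_cases p4 : B.1.1 0 0 = i
          · rw [e1 B p3 p4] at h
            cases h
          · rw [e2 B p3 p4, Sum.inr.injEq] at h
            exact ext_of A.2 B.2 (by rw [er A p1 p2, er B p3 p4]) (by rw [p1, p3]) h
        · rw [e3 B p3] at h
          cases h
    · rw [e3 A p1] at h
      by_cases p3 : B.1.1 0 1 = 0
      · by_cases p4 : B.1.1 0 0 = i
        · rw [e1 B p3 p4, Sum.inl.injEq, Prod.mk.injEq] at h
          exact absurd h.2 p1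
        · rw [e2 B p3 p4] at h
          cases h
      · rw [e3 B p3, Sum.inl.injEq, Prod.mk.injEq] at h
        refine ext_of A.2 B.2 h.1 h.2 ?_
        have dA := det_eq A.2
        have dB := det_eq B.2
        rw [h.1, h.2] at dA
        have : B.1.1 0 1 * (A.1.1 1 0 - B.1.1 1 0) = 0 := by linear_combination dA - dB
        exact sub_eq_zero.1 ((mul_eq_zero.1 this).resolve_left p3)
  have hS : Nat.card S ≤ Fintype.card F ^ 2 + Fintype.card F := by
    refine (Nat.card_le_card_of_injective ψ hψ).trans (le_of_eq ?_)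
    rw [Nat.card_eq_fintype_card, Fintype.card_sum, Fintype.card_prod, pow_two]
  have hng : ∀ A : S, (ng A.1).1 1 1 = - (ng A.1).1 0 0 := by
    intro A
    show - A.1.1 1 1 = - - A.1.1 0 0
    rw [A.2]
  let θ : {x : P2 F // orderOf x = 2} × Bool → S := fun x => if x.2 = true then ⟨L x.1, h2 x.1⟩ else
    ⟨ng (L x.1), hng ⟨L x.1, h2 x.1⟩⟩
  have hmk : ∀ x, (QuotientGroup.mk (θ x).1 : P2 F) = x.1.1 := by
    rintro ⟨x, b⟩
    cases b
    · exact (ng_mk _).trans (h1 x)
    · exact h1 x
  have hθ : Function.Injective θ := by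
    rintro ⟨x, b⟩ ⟨y, c⟩ h
    have hxy : x = y := by
      apply Subtype.ext
      have h4 := hmk (x, b)
      rw [h, hmk (y, c)] at h4
      exact h4.symm
    subst hxy
    have hne : L x ≠ ng (L x) := by
      intro h4
      have hz : ∀ i j, (L x).1 i j = 0 := by
        intro i j
        have h5 : (L x).1 i j = - (L x).1 i j := congrArg (fun B : Matrix.SpecialLinearGroup (Fin 2) F => B.1 i j) h4
        have h6 : (2 : F) * (L x).1 i j = 0 := by linear_combination h5
        exact (mul_eq_zero.1 h6).resolve_left h20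
      have hdet := (L x).2
      rw [Matrix.det_fin_two, hz, hz, hz, hz] at hdet
      norm_num at hdet
    cases b <;> cases c
    · rfl
    · exact absurd (congrArg Subtype.val h).symm hne
    · exact absurd (congrArg Subtype.val h) hne
    · rfl
  have hc := Nat.card_le_card_of_injective θ hθ
  rw [Nat.card_prod, Nat.card_eq_fintype_card (α := Bool), Fintype.card_bool, mul_comm] at hc
  exact hc.trans hS

end Cfsg.Agent.H347.EPX
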