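import Cfsg.Agent.H347.EPX.Small

/-!
# Groups of order 1092 and 2184; the counting inequality with weights (helper347, for S5745)
-/

set_option autoImplicit false

namespace Cfsg.Agent.H347.EPX

open MulAction Subgroup Cfsg.Agent.H742.EX Cfsg.Agent.H284

/-- **E_pi, crude form, with weights** -/
theorem e_pi_w {G : Type*} [Group G] [Finite G] (H : Subgroup G) (π : Finset ℕ) (w : ℕ → ℕ) (hw : ∀ r ∈ π, 0 < w r)
    (hM : ∀ g ∉ H, ∃ r ∈ π, w r ≤ (el (H ⊓ cj g H : Subgroup G) r).card) (N c : ℕ → ℕ)
    (hN : ∀ r ∈ π, (el H r).card ≤ N r) (hc0 : ∀ r ∈ π, 0 < c r)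
    (hc : ∀ r ∈ π, ∀ x ∈ H, orderOf x = r → c r ≤ cG x) :
    ((H.index : ℚ) - 1) ≤ H.index * ∑ r ∈ π, ((N r : ℚ) ^ 2 / ((w r : ℚ) * c r)) := by
  classical
  have hfin : Finite (G ⧸ H) := inferInstance
  let _ : Fintype (G ⧸ H) := Fintype.ofFinite _
  let o : G ⧸ H := QuotientGroup.mk 1
  have hpos : ∀ s ∈ π, (0 : ℚ) < (w s : ℚ) := fun s hs => by exact_mod_cast hw s hs
  have hst : ∀ (b : G ⧸ H), b ≠ o → 1 ≤ ∑ r ∈ π, (1 / (w r : ℚ)) *
      (((el H r).filter (fun x => x • b = b)).card : ℚ) := by
    intro b hb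
    obtain ⟨g, rfl⟩ := QuotientGroup.mk_surjective b
    have hg : g ∉ H := by
      intro hg
      apply hb
      change (QuotientGroup.mk g : G ⧸ H) = QuotientGroup.mk 1
      rw [QuotientGroup.eq, mul_one]
      exact H.inv_mem hg
    obtain ⟨r, hr, hd⟩ := hM g hg
    have h2 : el (H ⊓ cj g H : Subgroup G) r ⊆ (el H r).filter (fun x => x • (QuotientGroup.mk g : G ⧸ H) = QuotientGroup.mk g) := by
      intro x hx
      rw [mem_el] at hx
      rw [Finset.mem_filter, mem_el]
      refine ⟨⟨hx.1.1, hx.2⟩, ?_⟩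
      have h3 := mem_cj.1 hx.1.2
      exact (mem_fixedBy).1 (fixedBy_iff.2 h3)
    have h3 : ((w r : ℚ)) ≤ (((el H r).filter (fun x => x • (QuotientGroup.mk g : G ⧸ H) = QuotientGroup.mk g)).card : ℚ) := by
      exact_mod_cast hd.trans (Finset.card_le_card h2)
    refine le_trans ?_ (Finset.single_le_sum (fun s hs => ?_) hr)
    · rw [one_div, ← div_eq_inv_mul, le_div_iff₀ (hpos r hr), one_mul]
      exact h3
    · exact mul_nonneg (one_div_nonneg.2 (hpos s hs).le) (Nat.cast_nonneg _)
  have hsum := Finset.sum_le_sum (s := Finset.univ.erase o) (f := fun _ => (1 : ℚ)) (fun b hb =>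
    hst b (Finset.ne_of_mem_erase hb))
  rw [Finset.sum_const, Finset.card_erase_of_mem (Finset.mem_univ _), Finset.card_univ, ← Nat.card_eq_fintype_card,
    nsmul_eq_mul, mul_one, Finset.sum_comm] at hsum
  have hidx : Nat.card (G ⧸ H) = H.index := rfl
  have hi1 : 1 ≤ H.index := Nat.one_le_iff_ne_zero.2 (Subgroup.index_ne_zero_of_finite)
  rw [hidx, Nat.cast_sub hi1, Nat.cast_one] at hsum
  refine hsum.trans ?_
  rw [Finset.mul_sum]
  refine Finset.sum_le_sum fun r hr => ?_
  rw [← Finset.mul_sum]
  have h1 : ∀ b : G ⧸ H, (((el H r).filter (fun x => x • b = b)).card : ℚ) =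
      ∑ x ∈ el H r, (if x • b = b then (1 : ℚ) else 0) := by
    intro b
    rw [Finset.sum_boole]
  rw [Finset.sum_congr rfl (fun b _ => h1 b), Finset.sum_comm]
  have hcp : (0 : ℚ) < c r := by exact_mod_cast hc0 r hr
  have h5 : ∀ x ∈ el H r, (∑ b ∈ Finset.univ.erase o, if x • b = b then (1 : ℚ) else 0) ≤
      H.index * ((N r : ℚ) / c r) := by
    intro x hx
    obtain ⟨hx1, hx2⟩ := mem_el.1 hx
    have h6 : (∑ b ∈ Finset.univ.erase o, if x • b = b then (1 : ℚ) else 0) ≤ (F H x : ℚ) := by
      rw [Finset.sum_boole, Finset.filter_erase]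
      have h7 : F H x = (Finset.univ.filter (fun b : G ⧸ H => x • b = b)).card := by
        rw [F, Nat.card_eq_fintype_card, Fintype.card_subtype]
        rfl
      rw [h7]
      exact_mod_cast Finset.card_le_card (Finset.erase_subset _ _)
    refine h6.trans ?_
    rw [F_eq]
    refine mul_le_mul_of_nonneg_left ?_ (Nat.cast_nonneg _)
    have h3 : cH H x ≤ N r := by
      refine le_trans ?_ (hN r hr)
      have h5 : cH H x ≤ Nat.card (el H r) := by
        refine Nat.card_le_card_of_injective (fun y => ⟨y.1, mem_el.2 ⟨y.2.2, ?_⟩⟩) ?_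
        · obtain ⟨d, hd⟩ := isConj_iff.1 y.2.1
          rw [← hd, ← hx2]
          exact (MulAut.conj d).orderOf_eq x
        · intro y z hyz
          exact Subtype.ext (congrArg (fun t : el H r => (t : G)) hyz)
      rwa [Nat.card_eq_fintype_card, Fintype.card_coe] at h5
    have h4 := hc r hr x hx1 hx2
    gcongr
  have h8 : ∑ x ∈ el H r, (∑ b ∈ Finset.univ.erase o, if x • b = b then (1 : ℚ) else 0) ≤
      N r * (H.index * ((N r : ℚ) / c r)) := by
    refine (Finset.sum_le_sum h5).trans ?_
    rw [Finset.sum_const, nsmul_eq_mul]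
    refine mul_le_mul_of_nonneg_right ?_ (by positivity)
    exact_mod_cast hN r hr
  calc (1 / (w r : ℚ)) * ∑ x ∈ el H r, (∑ b ∈ Finset.univ.erase o, if x • b = b then (1 : ℚ) else 0)
      ≤ (1 / (w r : ℚ)) * (N r * (H.index * ((N r : ℚ) / c r))) :=
        mul_le_mul_of_nonneg_left h8 (one_div_nonneg.2 (hpos r hr).le)
    _ = _ := by
        have := hpos r hr
        field_simp

section A1092

variable {T : Type*} [Group T] [Finite T] [hsT : IsSimpleGroup T]

theorem two_le_el (hc : Nat.card T = 1092) {M : Subgroup T} (hM : IsCoatom M) : 2 ≤ (el M 2).card := by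
  classical
  by_contra hlt
  have h2 : 2 ∣ Nat.card M := by
    by_contra h
    exact odd_false hc hM h
  have h2T : Fact (Nat.Prime 2) := ⟨Nat.prime_two⟩
  obtain ⟨t', ht'⟩ := exists_prime_orderOf_dvd_card' (G := M) 2 h2
  obtain ⟨t, htM⟩ := t'
  have ht : orderOf t = 2 := by rw [← ht', Subgroup.orderOf_mk]
  have huniq : ∀ y ∈ M, orderOf y = 2 → y = t := by
    intro y hy hy2
    by_contra hne
    apply hlt
    have h3 : ({y, t} : Finset T) ⊆ el M 2 := by
      intro z hz
      rw [Finset.mem_insert, Finset.mem_singleton] at hz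
      rcases hz with rfl | rfl
      · exact mem_el.2 ⟨hy, hy2⟩
      · exact mem_el.2 ⟨htM, ht⟩
    have h4 := Finset.card_le_card h3
    rwa [Finset.card_pair hne] at h4
  have hMC : M ≤ centralizer ({t} : Set T) := by
    intro m hm
    have h3 := huniq (m * t * m⁻¹) (M.mul_mem (M.mul_mem hm htM) (M.inv_mem hm)) (by
      rw [← ht]; exact (MulAut.conj m).orderOf_eq t)
    rw [mem_centralizer_singleton_iff]
    rwa [mul_inv_eq_iff_eq_mul] at h3
  have hCM : centralizer ({t} : Set T) = M := by
    rcases hM.le_iff.1 hMC with h3 | h3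
    · exfalso
      have h4 : t ∈ center T := by
        rw [mem_center_iff]
        intro g
        have : g ∈ centralizer ({t} : Set T) := by rw [h3]; exact mem_top _
        exact mem_centralizer_singleton_iff.1 this
      have h5 : Nat.card (center T) ≠ 1 := by
        intro h5
        rw [Subgroup.card_eq_one] at h5
        rw [h5, mem_bot] at h4
        rw [h4, orderOf_one] at ht
        omega
      rcases (inferInstance : (center T).Normal).eq_bot_or_eq_top with h6 | h6
      · rw [h6, Subgroup.card_bot] at h5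
        exact h5 rfl
      · have h7 : (zpowers t).Normal := by
          constructor
          intro n _ g
          have : g ∈ center T := by rw [h6]; exact mem_top _
          rw [(mem_center_iff.1 this n).symm, mul_inv_cancel_right]
          assumption
        exact simple_normal h7 (Nat.card_zpowers t) (by rw [ht]; norm_num) (by rw [ht, hc]; norm_num)
    · exact h3
  -- a Sylow subgroup
  have hpt : IsPGroup 2 (zpowers t) := IsPGroup.of_card (n := 1) (by rw [Nat.card_zpowers, ht, pow_one])
  obtain ⟨P, hP⟩ := hpt.exists_le_sylow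
  have hf : Nat.factorization 1092 2 = 2 := by
    rw [show (1092 : ℕ) = 2 ^ 2 * 273 by norm_num, Nat.factorization_mul (by norm_num) (by norm_num),
      Nat.Prime.factorization_pow Nat.prime_two]
    simp [Nat.factorization_eq_zero_of_not_dvd (show ¬ 2 ∣ 273 by norm_num)]
  have hcP : Nat.card (P : Subgroup T) = 4 := by
    rw [P.card_eq_multiplicity, hc, hf]; norm_num
  have htP : t ∈ (P : Subgroup T) := hP (mem_zpowers t)
  have hcomm := IsPGroup.commutative_of_card_eq_prime_sq (p := 2) (G := (P : Subgroup T)) (by rw [hcP]; norm_num)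
  have hPM : (P : Subgroup T) ≤ M := by
    intro y hy
    rw [← hCM, mem_centralizer_singleton_iff]
    exact congrArg Subtype.val (hcomm ⟨y, hy⟩ ⟨t, htP⟩)
  obtain ⟨w, hwP, hw⟩ : ∃ w ∈ (P : Subgroup T), orderOf w = 4 := by
    by_contra hcon
    push Not at hcon
    have h3 : (P : Subgroup T) ≤ zpowers t := by
      intro y hy
      have h4 : orderOf y ∣ 4 := by
        rw [← hcP]
        exact Subgroup.orderOf_dvd_natCard _ hy
      have h5 : orderOf y ∈ Nat.divisors 4 := by rw [Nat.mem_divisors]; exact ⟨h4, by norm_num⟩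
      have h6 : Nat.divisors 4 = {1, 2, 4} := by decide +kernel
      rw [h6, Finset.mem_insert, Finset.mem_insert, Finset.mem_singleton] at h5
      rcases h5 with h5 | h5 | h5
      · rw [orderOf_eq_one_iff] at h5
        rw [h5]; exact one_mem _
      · rw [huniq y (hPM hy) h5]
        exact mem_zpowers t
      · exact absurd h5 (hcon y hy)
    have h4 := Subgroup.card_le_of_le h3
    rw [hcP, Nat.card_zpowers, ht] at h4
    omega
  obtain ⟨K, hK, hKc⟩ := Cfsg.Agent.H188.Der.burnside_two (w := w) (k := 2) (m := 273) (by norm_num) (by rw [hw]; norm_num)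
    (by norm_num) (by rw [hc]; norm_num)
  exact simple_normal hK hKc (by norm_num) (by rw [hc]; norm_num)

end A1092

section A2184

/-- a group of order 2184 with a simple subgroup of index 2 and small centralizers of elements of order 13: an element of
order 13 is conjugate to its square -/
theorem fus_2184 {A : Type*} [Group A] [Finite A] {N : Subgroup A} (hN : N.Normal) (hs : IsSimpleGroup N)
    (hc : Nat.card N = 1092) (hA : Nat.card A = 2184)
    (h13 : ∀ x : A, orderOf x = 13 → Nat.card ↥(centralizer ({x} : Set A)) ≤ 13) :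
    ∃ x : A, orderOf x = 13 ∧ IsConj x (x ^ 2) := by
  classical
  have hf13 : Fact (Nat.Prime 13) := ⟨by norm_num⟩
  obtain ⟨x, hx⟩ := exists_prime_orderOf_dvd_card' (G := A) 13 (by rw [hA]; norm_num)
  refine ⟨x, hx, ?_⟩
  obtain ⟨P, hP⟩ := Cfsg.Agent.H188.Der.exists_sylow_zpowers (p := 13) (k := 1) (y := x) (by rw [pow_one, hx])
    (by rw [hA]; norm_num)
  have hcP : Nat.card (P : Subgroup A) = 13 := by rw [hP, Nat.card_zpowers, hx]
  -- number of Sylow subgroups
  have h1 : Nat.card (Sylow 13 A) ∣ 168 := by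
    have h3 := P.card_dvd_index
    have h4 := (P : Subgroup A).card_mul_index
    rw [hcP, hA] at h4
    have h5 : (P : Subgroup A).index = 168 := by omega
    rwa [h5] at h3
  have h2 := card_sylow_modEq_one 13 A
  have h3 : Nat.card (Sylow 13 A) = 1 ∨ Nat.card (Sylow 13 A) = 14 := by
    have h4 : Nat.card (Sylow 13 A) ∈ Nat.divisors 168 := by rw [Nat.mem_divisors]; exact ⟨h1, by norm_num⟩
    have h5 : ∀ n ∈ Nat.divisors 168, n % 13 = 1 % 13 → n = 1 ∨ n = 14 := by decide +kernel
    exact h5 _ h4 h2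
  have h14 : Nat.card (Sylow 13 A) = 14 := by
    rcases h3 with h3 | h3
    · exfalso
      have : Subsingleton (Sylow 13 A) := (Nat.card_eq_one_iff_unique.1 h3).1
      have hPn : (P : Subgroup A).Normal := P.normal_of_subsingleton
      have hPN : (P : Subgroup A) ≤ N := by
        rw [hP, zpowers_le]
        exact Cfsg.Agent.H188.Der.mem_normal_of_coprime hN (k := 2) (by rw [hc, hA]) (by rw [hx]; norm_num)
      have h5 : ((P : Subgroup A).subgroupOf N).Normal := hPn.subgroupOf N
      have h6 : Nat.card ((P : Subgroup A).subgroupOf N) = 13 := by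
        rw [Nat.card_congr (Subgroup.subgroupOfEquivOfLe hPN).toEquiv, hcP]
      exact simple_normal h5 h6 (by norm_num) (by rw [hc]; norm_num)
    · exact h3
  have hn := SmallSimple.BurnsideNC.card_sylow_mul_card_normalizer P
  rw [h14, hA] at hn
  have hn' : Nat.card ↥(Subgroup.normalizer ((P : Subgroup A) : Set A)) = 156 := by
    have : Nat.card ↥(Subgroup.normalizer (P : Set A)) = 156 := by omega
    exact this
  rw [hP] at hn'
  -- the map `n ↦ n x n⁻¹`
  let f : ↥(Subgroup.normalizer (zpowers x : Set A)) → {y : A // y ∈ zpowers x ∧ y ≠ 1} := fun n =>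
    ⟨(n : A) * x * (n : A)⁻¹, (Subgroup.mem_normalizer_iff.1 n.2 x).1 (mem_zpowers x), by
      intro e
      have : x = 1 := by
        have e2 : x = (n : A)⁻¹ * ((n : A) * x * (n : A)⁻¹) * (n : A) := by group
        rw [e2, e]; group
      rw [this, orderOf_one] at hx
      omega⟩
  have hfs : Function.Surjective f := by
    by_contra hns
    have h4 : ∃ y, ∀ n, f n ≠ y := by
      by_contra hcon
      push Not at hcon
      exact hns hcon
    obtain ⟨y, hy⟩ := h4
    have hfib : ∀ z : {y : A // y ∈ zpowers x ∧ y ≠ 1}, Nat.card {n // f n = z} ≤ 13 := by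
      intro z
      by_cases hz : ∃ n, f n = z
      · obtain ⟨n, rfl⟩ := hz
        refine le_trans (Nat.card_le_card_of_injective (fun k : {k // f k = f n} =>
          (⟨(n : A)⁻¹ * (k.1 : A), ?_⟩ : ↥(centralizer ({x} : Set A)))) ?_) (h13 x hx)
        · rw [mem_centralizer_singleton_iff]
          have h5 : (k.1 : A) * x * (k.1 : A)⁻¹ = (n : A) * x * (n : A)⁻¹ := congrArg Subtype.val k.2
          have h6 : (k.1 : A) * x = (n : A) * x * (n : A)⁻¹ * (k.1 : A) := by
            rw [← h5]; group
          rw [mul_assoc, h6]; group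
        · intro k l hkl
          have h5 : (n : A)⁻¹ * (k.1 : A) = (n : A)⁻¹ * (l.1 : A) := congrArg Subtype.val hkl
          exact Subtype.ext (Subtype.ext (mul_left_cancel h5))
      · have : IsEmpty {n // f n = z} := ⟨fun n => hz ⟨n.1, n.2⟩⟩
        rw [Nat.card_of_isEmpty]
        omega
    have hft := Fintype.ofFinite {y : A // y ∈ zpowers x ∧ y ≠ 1}
    have hcard : Nat.card {y : A // y ∈ zpowers x ∧ y ≠ 1} = 12 := by
      have h5 : Nat.card {y : A // y ∈ zpowers x ∧ y ≠ 1} = Nat.card {y : zpowers x // y ≠ 1} :=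
        Nat.card_congr ⟨fun y => ⟨⟨y.1, y.2.1⟩, fun e => y.2.2 (congrArg Subtype.val e)⟩,
          fun y => ⟨y.1.1, y.1.2, fun e => y.2 (Subtype.ext e)⟩, fun _ => rfl, fun _ => rfl⟩
      rw [h5]
      have := Fintype.ofFinite (zpowers x)
      rw [Nat.card_eq_fintype_card, Fintype.card_subtype_compl, Fintype.card_subtype_eq, ← Nat.card_eq_fintype_card,
        Nat.card_zpowers, hx]
    rw [Nat.card_congr (Equiv.sigmaFiberEquiv f).symm, Nat.card_sigma] at hn'
    have h5 : ∑ z, Nat.card {n // f n = z} ≤ ∑ z : {y : A // y ∈ zpowers x ∧ y ≠ 1}, (if z = y then 0 else 13) := by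
      refine Finset.sum_le_sum fun z _ => ?_
      split_ifs with hz
      · subst hz
        have : IsEmpty {n // f n = z} := ⟨fun n => hy n.1 n.2⟩
        rw [Nat.card_of_isEmpty]
      · exact hfib z
    rw [hn', Finset.sum_ite, Finset.sum_const_zero, zero_add, Finset.sum_const, smul_eq_mul] at h5
    have h6 : (Finset.univ.filter fun z : {y : A // y ∈ zpowers x ∧ y ≠ 1} => ¬ z = y).card = 11 := by
      rw [Finset.filter_not, Finset.filter_eq' , if_pos (Finset.mem_univ _), Finset.card_sdiff_of_subset (Finset.subset_univ _),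
        Finset.card_singleton, Finset.card_univ, ← Nat.card_eq_fintype_card, hcard]
    rw [h6] at h5
    omega
  have hx2 : x ^ 2 ∈ zpowers x ∧ x ^ 2 ≠ 1 := by
    refine ⟨pow_mem (mem_zpowers x) 2, fun e => ?_⟩
    have := orderOf_dvd_of_pow_eq_one e
    rw [hx] at this
    exact absurd this (by norm_num)
  obtain ⟨n, hn2⟩ := hfs ⟨x ^ 2, hx2⟩
  exact isConj_iff.2 ⟨n, congrArg Subtype.val hn2⟩

end A2184

end Cfsg.Agent.H347.EPX
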