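import Cfsg.Agent.H347.EPX.GThreeData
import Cfsg.Agent.H347.EPX.Invol
import Cfsg.Agent.H347.EPX.Small2
import Cfsg.Agent.H542.EPX.Cells
import Cfsg.Agent.H689.EP.L27
import Cfsg.Agent.H212.EP.AutCards
import Cfsg.Agent.H219.HerSmall
import Cfsg.Agent.OrdDiv.Table
import Cfsg.Agent.S0000

/-!
# S5745: the rows of `G₂(3)` (helper347)

`spor_three`, `cross_three`, `crossk_three`.
-/

set_option autoImplicit false

namespace Cfsg.Agent.H347.EPX.GThree

open Subgroup Cfsg Cfsg.Agent.H284 Cfsg.Agent.H209.EPX Cfsg.Agent.H542.EPX Cfsg.Agent.H742.EX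

theorem ept {G : Type} [Group G] [Finite G] [IsSimpleGroup G] (hcomm : ¬ ∀ a b : G, a * b = b * a) {H : Subgroup G}
    (h : EP H) : EPT H (H.map (MulAut.conj : G →* MulAut G)) := by
  have hs : IsSimpleGroup (⊤ : Subgroup G) := (Subgroup.topEquiv (G := G)).isSimpleGroup
  have hcent : Subgroup.centralizer ((⊤ : Subgroup G) : Set G) = ⊥ := by
    have h1 : Subgroup.centralizer ((⊤ : Subgroup G) : Set G) = center G := by
      rw [Subgroup.coe_top, Subgroup.centralizer_univ]
    rw [h1]
    rcases (inferInstance : (center G).Normal).eq_bot_or_eq_top with h2 | h2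
    · exact h2
    · exfalso
      apply hcomm
      intro a b
      have : b ∈ center G := by rw [h2]; exact mem_top _
      exact (mem_center_iff.1 this a)
  have hsol : Group.IsSolvable (G ⧸ (⊤ : Subgroup G)) := by
    have : Subsingleton (G ⧸ (⊤ : Subgroup G)) := QuotientGroup.subsingleton_quotient_top
    infer_instance
  have h1 := h.toEPT (T := ⊤) (Subgroup.topEquiv (G := G)) hs
    (fun h2 => hcomm fun a b => h2 a (mem_top _) b (mem_top _)) hcent hsol
  have e1 : TA (Subgroup.topEquiv (G := G)) H = H := by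
    ext q
    rfl
  have e2 : toAut (Subgroup.topEquiv (G := G)) = (MulAut.conj : G →* MulAut G) := by
    ext g q
    have := toG_toAut (Subgroup.topEquiv (G := G)) g q
    exact this
  rw [e1, e2] at h1
  exact h1

variable {G : Type} [Group G] {H N : Subgroup G} {T : Type} [Group T] {k : ℕ} {e : N ≃* (Fin k → T)}

theorem cent_one {e : N ≃* (Fin k → T)} (h : EPS H N e) {a : G} (ha : ∀ n ∈ N, a * n = n * a) : a = 1 := by
  have h1 : a ∈ centralizer (N : Set G) := by
    rw [mem_centralizer_iff]
    intro n hn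
    exact (ha n hn).symm
  rw [h.cent, mem_bot] at h1
  exact h1

theorem hasSoc {e : N ≃* (Fin k → T)} (h : EPS H N e) : Cfsg.Agent.H419.EP.HasSoc H (Fin k → T) :=
  ⟨N, h.le, fun a ha n hn => h.nrm a ha n hn, fun _ _ hn => cent_one h hn, ⟨e⟩⟩

/-- the two point stabilisers are maximal -/
theorem coatom [Finite G] (h : EP H) {x : G} (hx : x ∉ H) : IsCoatom ((H ⊓ cj x H).subgroupOf H) := by
  refine ⟨fun e => ?_, fun L hL => ?_⟩
  · rw [subgroupOf_eq_top] at e
    exact h.not_le_cj hx (e.trans inf_le_right)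
  · have h1 : H ⊓ cj x H ≤ L.map H.subtype := by
      intro g hg
      exact ⟨⟨g, hg.1⟩, hL.le (mem_subgroupOf.2 hg), rfl⟩
    have h2 : L.map H.subtype ≤ H := by
      rintro _ ⟨y, -, rfl⟩
      exact y.2
    have h3 : (L.map H.subtype).subgroupOf H = L := by
      rw [subgroupOf, comap_map_eq_self_of_injective H.subtype_injective]
    rcases h.two x hx _ h1 h2 with h4 | h4
    · exfalso
      rw [h4] at h3
      exact hL.ne h3
    · rw [← h3, h4, subgroupOf_self]

/-- from `H` to `G` -/
theorem le_el [Finite G] {M : Subgroup G} (r : ℕ) : (el (M.subgroupOf H) r).card ≤ (el M r).card := by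
  classical
  refine Finset.card_le_card_of_injOn (fun x => (x : G)) ?_ ?_
  · intro x hx
    rw [Finset.mem_coe, mem_el] at hx ⊢
    exact ⟨hx.1, by rw [Subgroup.orderOf_coe]; exact hx.2⟩
  · intro x _ y _ hxy
    exact Subtype.ext hxy

/-- elements of order `r` in a subgroup isomorphic to `P` -/
theorem el_le [Finite G] {P : Type} [Group P] [Finite P] (E : N ≃* P) {r : ℕ} (h : ∀ x ∈ H, orderOf x = r → x ∈ N) :
    (el H r).card ≤ Nat.card {x : P // orderOf x = r} := by
  classical
  have h1 : (el H r).card = Nat.card (el H r) := by rw [Nat.card_eq_fintype_card, Fintype.card_coe]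
  rw [h1]
  refine Nat.card_le_card_of_injective (fun x => ⟨E ⟨x.1, h x.1 (mem_el.1 x.2).1 (mem_el.1 x.2).2⟩, ?_⟩) ?_
  · rw [E.orderOf_eq, Subgroup.orderOf_mk]
    exact (mem_el.1 x.2).2
  · intro x y hxy
    have h2 := E.injective (congrArg Subtype.val hxy)
    have h3 : x.1 = y.1 := by
      have := congrArg Subtype.val h2
      exact this
    exact Subtype.ext h3

/-- the list of the simple groups -/
theorem list_T (hna : ¬ ∀ a b : T, a * b = b * a) [Finite T] [IsSimpleGroup T] (hd : Nat.card T ∣ 4245696) :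
    ∃ g ∈ [OrdDiv.Grp.psl 3 2, .psl 2 8, .psl 3 3, .psl 2 27, .psl 2 7, .psl 2 13, .psu 3 3, .g2 3],
      OrdDiv.Real g T ∧ Nat.card T = OrdDiv.ordN g := by
  obtain ⟨g, hg, h1, h2⟩ := OrdDiv.exists_good OrdDiv.table Cfsg.Agent.S0000.result hna (l := [(2, 6), (3, 6), (7, 1), (13, 1)])
    (by decide +kernel) hd
  refine ⟨g, ?_, h1, h2⟩
  have hc : OrdDiv.cands [(2, 6), (3, 6), (7, 1), (13, 1)] 4245696 =
      [OrdDiv.Grp.psl 3 2, .psl 2 8, .psl 3 3, .psl 2 27, .psl 2 7, .psl 2 13, .psu 3 3, .g2 3] := by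
    decide +kernel
  rwa [hc] at hg

/-! ### the rows -/

theorem fin_T [Finite G] (e : N ≃* (Fin k → T)) (hk : 0 < k) : Finite T := by
  have h1 : Finite (Fin k → T) := Finite.of_equiv _ e.toEquiv
  have : Nonempty (Fin k) := ⟨⟨0, hk⟩⟩
  exact Finite.of_injective (fun t : T => fun _ : Fin k => t) fun a b hab => congrFun hab ⟨0, hk⟩

theorem card_N [Finite G] (e : N ≃* (Fin k → T)) : Nat.card N = Nat.card T ^ k := by
  rw [Nat.card_congr e.toEquiv, Nat.card_pi, Finset.prod_const, Finset.card_univ, Fintype.card_fin]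

theorem na {e : N ≃* (Fin k → T)} (h : EPS H N e) : ¬ ∀ a b : T, a * b = b * a := by
  obtain ⟨a, b, hab⟩ := h.nab
  exact fun hc => hab (hc a b)

theorem nonab [Finite G] {e : N ≃* (Fin k → T)} (h : EPS H N e) : ¬ ∀ a b : G, a * b = b * a := by
  intro hc
  obtain ⟨a, b, hab⟩ := h.nab
  apply hab
  have h1 : (fun _ : Fin k => a) * (fun _ => b) = (fun _ : Fin k => b) * (fun _ => a) := by
    apply e.symm.injective
    rw [map_mul, map_mul]
    exact Subtype.ext (hc _ _)
  exact congrFun h1 ⟨0, h.pos⟩

/-- the list, from the stabiliser -/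
theorem list_of [Finite G] (hD : Data G) {e : N ≃* (Fin k → T)} (h : EPS H N e) :
    ∃ g ∈ [OrdDiv.Grp.psl 3 2, .psl 2 8, .psl 3 3, .psl 2 27, .psl 2 7, .psl 2 13, .psu 3 3, .g2 3],
      OrdDiv.Real g T ∧ Nat.card T = OrdDiv.ordN g ∧ OrdDiv.ordN g ^ k ∣ 4245696 := by
  have hT := fin_T e h.pos
  have hs := h.simple
  have h1 : Nat.card T ^ k ∣ 4245696 := by
    rw [← card_N e, ← hD.card]
    exact Subgroup.card_subgroup_dvd_card N
  obtain ⟨g, h2, h3, h4⟩ := list_T (na h) ((dvd_pow_self _ h.pos.ne').trans h1)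
  exact ⟨g, h2, h3, h4, by rw [← h4]; exact h1⟩

theorem crossk_of [Finite G] (hD : Data G) {e : N ≃* (Fin k → T)} (hk : 2 ≤ k) (h : EPS H N e) : False := by
  obtain ⟨g, h2, -, -, h5⟩ := list_of hD h
  have h6 : OrdDiv.ordN g ^ 2 ∣ 4245696 := (pow_dvd_pow _ hk).trans h5
  have key : ∀ g ∈ [OrdDiv.Grp.psl 3 2, .psl 2 8, .psl 3 3, .psl 2 27, .psl 2 7, .psl 2 13, .psu 3 3, .g2 3],
      OrdDiv.ordN g ^ 2 ∣ 4245696 → False := by decide +kernel
  exact key g h2 h6

/-- `|T| = 168` -/
theorem row_168 [Finite G] [IsSimpleGroup G] (hD : Data G) {e : N ≃* (Fin 1 → T)} (h : EPS H N e)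
    (hc : Nat.card T = 168) : False := by
  have hs := h.simple
  have hsN : IsSimpleGroup N := (e.trans (MulEquiv.funUnique (Fin 1) T)).isSimpleGroup
  have h1 : Cfsg.Agent.H689.EP.Soc H (H.map (MulAut.conj : G →* MulAut G)) N :=
    ⟨ept (nonab h) h.ep, h.le, h.nrm, hsN, by rw [card_N e, hc, pow_one], fun a _ ha => cent_one h ha⟩
  have h2 := h1.card_le
  rw [hD.card] at h2
  omega

theorem card_H_dvd [Finite G] {e : N ≃* (Fin 1 → T)} (h : EPS H N e) : Nat.card H ∣ Nat.card (MulAut T) := by
  have hT := fin_T e h.pos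
  exact Cfsg.Agent.H212.EP.card_dvd_aut ((hasSoc h).congr (MulEquiv.funUnique (Fin 1) T))

theorem cG_ge [Finite G] (hD : Data G) {x : G} {m c : ℕ} (hm : Nat.card ↥(centralizer ({x} : Set G)) ≤ m)
    (hc : c * m = 4245696) : c ≤ cG x := by
  have h1 : cG x * Nat.card ↥(centralizer ({x} : Set G)) = 4245696 := by
    rw [← hD.card]
    exact Cfsg.Agent.H235.Ore.ClassList.card_class x
  by_contra hlt
  push Not at hlt
  have h2 : 0 < m := by
    rcases Nat.eq_zero_or_pos m with h | h
    · rw [h] at hc; omega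
    · exact h
  have h3 : cG x * Nat.card ↥(centralizer ({x} : Set G)) ≤ cG x * m := Nat.mul_le_mul le_rfl hm
  have h4 : cG x * m < c * m := Nat.mul_lt_mul_of_pos_right hlt h2
  omega

/-- the normal subgroup of `H` -/
theorem nrm_sub {e : N ≃* (Fin 1 → T)} (h : EPS H N e) : (N.subgroupOf H).Normal :=
  ⟨fun n hn g => h.nrm g g.2 n hn⟩

theorem sim_sub {e : N ≃* (Fin 1 → T)} (h : EPS H N e) : IsSimpleGroup (N.subgroupOf H) := by
  have hs := h.simple
  exact ((Subgroup.subgroupOfEquivOfLe h.le).trans (e.trans (MulEquiv.funUnique (Fin 1) T))).isSimpleGroup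

theorem card_sub {e : N ≃* (Fin 1 → T)} (h : EPS H N e) : Nat.card (N.subgroupOf H) = Nat.card T := by
  exact Nat.card_congr ((Subgroup.subgroupOfEquivOfLe h.le).trans (e.trans (MulEquiv.funUnique (Fin 1) T))).toEquiv

/-- `T = L₂(8)` -/
theorem row_504 [Finite G] [IsSimpleGroup G] (hD : Data G) {e : N ≃* (Fin 1 → T)} (h : EPS H N e)
    (hr : OrdDiv.Real (.psl 2 8) T) (hc : Nat.card T = 504) : False := by
  obtain ⟨F, _, _, hF, ⟨f⟩⟩ := hr
  have hT := fin_T e h.pos
  have hn := nrm_sub h
  have hsn := sim_sub h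
  have hcn := card_sub h
  rw [hc] at hcn
  have h1 : Nat.card H ∣ 1512 := by
    have h2 := card_H_dvd h
    rw [Nat.card_congr (MulAut.congr f).toEquiv, Cfsg.Agent.H212.EP.aut_psl_two (p := 2) (f := 3) Nat.prime_two
      (by norm_num) (by rw [hF]; norm_num) (by norm_num)] at h2
    norm_num at h2
    exact h2
  have h3 : 504 ∣ Nat.card H := by
    rw [← hcn]
    exact Subgroup.card_subgroup_dvd_card _
  have hcH : Nat.card H = 504 ∨ Nat.card H = 1512 := by
    obtain ⟨m, hm⟩ := h3
    rw [hm] at h1 ⊢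
    have h4 : m ∣ 3 := Nat.dvd_of_mul_dvd_mul_left (k := 504) (by norm_num) (by norm_num; exact h1)
    rcases (Nat.dvd_prime Nat.prime_three).1 h4 with rfl | rfl
    · left; rfl
    · right; rfl
  have hmem : ∀ r : ℕ, Nat.Coprime 3 r → ∀ x ∈ H, orderOf x = r → x ∈ N := by
    intro r hr x hx hxr
    have h5 : (⟨x, hx⟩ : H) ∈ N.subgroupOf H := by
      rcases hcH with h6 | h6
      · exact Cfsg.Agent.H188.Der.mem_normal_of_coprime hn (k := 1) (by rw [hcn, h6]) (Nat.coprime_one_left _)
      · exact Cfsg.Agent.H188.Der.mem_normal_of_coprime hn (k := 3) (by rw [hcn, h6])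
          (by rw [Subgroup.orderOf_mk, hxr]; exact hr)
    exact h5
  have hch : CharP F 2 := by
    have : Fact (Nat.Prime 2) := ⟨Nat.prime_two⟩
    exact charP_of_card_eq_prime_pow (f := 3) (by rw [hF]; norm_num)
  let E : N ≃* P2 F := (e.trans (MulEquiv.funUnique (Fin 1) T)).trans f
  have hfP : Finite (P2 F) := Finite.of_equiv _ f.toEquiv
  have hN2 : (el H 2).card ≤ 63 := by
    refine (el_le E (hmem 2 (by norm_num))).trans ?_
    have := invol_two (F := F)
    rw [hF] at this
    exact this
  have hN7 : (el H 7).card ≤ 504 := by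
    refine (el_le E (hmem 7 (by norm_num))).trans ?_
    have h5 : Nat.card {x : P2 F // orderOf x = 7} ≤ Nat.card (P2 F) :=
      Nat.card_le_card_of_injective _ Subtype.val_injective
    refine h5.trans (le_of_eq ?_)
    rw [← hc]
    exact (Nat.card_congr f.toEquiv).symm
  have key := e_pi_w H {2, 7} (fun r => r - 1) (by decide) (fun g hg => by
    have h5 := dvd_504 hn hsn hcn hcH (coatom h.ep hg)
    have h6 : Nat.card ((H ⊓ cj g H).subgroupOf H) = Nat.card (H ⊓ cj g H : Subgroup G) :=
      Nat.card_congr (Subgroup.subgroupOfEquivOfLe inf_le_left).toEquiv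
    rw [h6] at h5
    rcases h5 with h5 | h5
    · exact ⟨2, by decide, le_card_el _ Nat.prime_two h5⟩
    · exact ⟨7, by decide, le_card_el _ (by norm_num) h5⟩) (fun r => if r = 2 then 63 else 504)
    (fun r => if r = 2 then 7371 else 606528) (fun r hr => by
      rw [Finset.mem_insert, Finset.mem_singleton] at hr
      rcases hr with rfl | rfl
      · exact hN2
      · exact hN7) (fun r _ => by by_cases h : r = 2 <;> simp [h]) (fun r hr x _ hx => by
      rw [Finset.mem_insert, Finset.mem_singleton] at hr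
      rcases hr with rfl | rfl
      · exact cG_ge hD (hD.two x hx) (by norm_num)
      · exact cG_ge hD (hD.seven x hx) (by norm_num))
  rw [Finset.sum_pair (by norm_num)] at key
  norm_num at key
  have hidx := H.card_mul_index
  rw [hD.card] at hidx
  have h7 : (2808 : ℚ) ≤ H.index := by
    have h8 : 2808 ≤ H.index := by
      rcases hcH with h6 | h6 <;> rw [h6] at hidx <;> omega
    exact_mod_cast h8
  linarith

/-- `T = L₂(13)` -/
theorem row_1092 [Finite G] [IsSimpleGroup G] (hD : Data G) {e : N ≃* (Fin 1 → T)} (h : EPS H N e)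
    (hr : OrdDiv.Real (.psl 2 13) T) (hc : Nat.card T = 1092) : False := by
  obtain ⟨F, _, _, hF, ⟨f⟩⟩ := hr
  have hT := fin_T e h.pos
  have hn := nrm_sub h
  have hsn := sim_sub h
  have hcn := card_sub h
  rw [hc] at hcn
  have h1 : Nat.card H ∣ 2184 := by
    have h2 := card_H_dvd h
    rw [Nat.card_congr (MulAut.congr f).toEquiv, Cfsg.Agent.H212.EP.aut_psl_two (p := 13) (f := 1) (by norm_num)
      (by norm_num) (by rw [hF]; norm_num) (by norm_num)] at h2
    norm_num at h2
    exact h2
  have h3 : 1092 ∣ Nat.card H := by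
    rw [← hcn]
    exact Subgroup.card_subgroup_dvd_card _
  have hcH : Nat.card H = 1092 ∨ Nat.card H = 2184 := by
    obtain ⟨m, hm⟩ := h3
    rw [hm] at h1 ⊢
    have h4 : m ∣ 2 := Nat.dvd_of_mul_dvd_mul_left (k := 1092) (by norm_num) (by norm_num; exact h1)
    rcases (Nat.dvd_prime Nat.prime_two).1 h4 with rfl | rfl
    · left; rfl
    · right; rfl
  rcases hcH with hcH | hcH
  · have hNH : N = H := Subgroup.eq_of_le_of_card_ge h.le (by
      rw [hcH, card_N e, hc]; norm_num)
    have hsH : IsSimpleGroup H := by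
      have := h.simple
      rw [← hNH]
      exact (e.trans (MulEquiv.funUnique (Fin 1) T)).isSimpleGroup
    let E : N ≃* P2 F := (e.trans (MulEquiv.funUnique (Fin 1) T)).trans f
    have hfP : Finite (P2 F) := Finite.of_equiv _ f.toEquiv
    have h20 : (2 : F) ≠ 0 := by
      have : Fact (Nat.Prime 13) := ⟨by norm_num⟩
      have hch : CharP F 13 := charP_of_card_eq_prime_pow (f := 1) (by rw [hF]; norm_num)
      intro h0
      have h1 : ((2 : ℕ) : F) = 0 := by exact_mod_cast h0
      rw [CharP.cast_eq_zero_iff F 13] at h1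
      exact absurd h1 (by norm_num)
    have hN2 : (el H 2).card ≤ 91 := by
      have h4 := el_le (H := H) (r := 2) E (fun x hx _ => by rw [hNH]; exact hx)
      have := invol_odd (F := F) h20
      rw [hF] at this
      omega
    have key := e_pi_w H {2} (fun _ => 2) (by decide) (fun g hg => by
      refine ⟨2, by decide, ?_⟩
      exact (two_le_el hcH (coatom h.ep hg)).trans (le_el 2)) (fun _ => 91) (fun _ => 7371) (fun r hr => by
        rw [Finset.mem_singleton] at hr
        subst hr
        exact hN2) (fun r _ => by norm_num) (fun r hr x _ hx => by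
        rw [Finset.mem_singleton] at hr
        subst hr
        exact cG_ge hD (hD.two x hx) (by norm_num))
    rw [Finset.sum_singleton] at key
    norm_num at key
    have hidx := H.card_mul_index
    rw [hD.card, hcH] at hidx
    have h7 : (3888 : ℚ) = H.index := by
      have h8 : 3888 = H.index := by omega
      exact_mod_cast h8
    rw [← h7] at key
    norm_num at key
  · obtain ⟨x, hx, hconj⟩ := fus_2184 hn hsn hcn hcH (fun x hx => by
      refine le_trans (Nat.card_le_card_of_injective (fun y : ↥(centralizer ({x} : Set H)) =>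
        (⟨(y.1 : G), ?_⟩ : ↥(centralizer ({(x : G)} : Set G)))) ?_) (hD.thirteen (x : G) (by
          rw [Subgroup.orderOf_coe, hx]))
      · rw [mem_centralizer_singleton_iff]
        exact congrArg Subtype.val (mem_centralizer_singleton_iff.1 y.2)
      · intro y z hyz
        have h4 : ((y.1 : H) : G) = (z.1 : G) := by
          have := congrArg Subtype.val hyz
          exact this
        exact Subtype.ext (Subtype.ext h4))
    refine hD.fus (x : G) (by rw [Subgroup.orderOf_coe, hx]) ?_
    obtain ⟨c, hc'⟩ := isConj_iff.1 hconj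
    exact isConj_iff.2 ⟨c, congrArg Subtype.val hc'⟩

theorem cross_of [Finite G] [IsSimpleGroup G] (hD : Data G) {e : N ≃* (Fin 1 → T)} (h : EPS H N e)
    (hl : ¬ IsLieTypeChar 3 T) : False := by
  obtain ⟨g, h2, h3, h4, -⟩ := list_of hD h
  simp only [List.mem_cons, List.not_mem_nil, or_false] at h2
  rcases h2 with rfl | rfl | rfl | rfl | rfl | rfl | rfl | rfl
  · exact row_168 hD h (h4.trans (by decide +kernel))
  · exact row_504 hD h h3 (h4.trans (by decide +kernel))
  · exact hl (Cfsg.Agent.H219.HerSmall.lie_real (k := 1) Nat.prime_three h3 (by norm_num) (by omega))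
  · exact hl (Cfsg.Agent.H219.HerSmall.lie_real (k := 3) Nat.prime_three h3 (by norm_num) (by omega))
  · exact row_168 hD h (h4.trans (by decide +kernel))
  · exact row_1092 hD h h3 (h4.trans (by decide +kernel))
  · obtain ⟨K, _, _, hK, he⟩ := h3
    have : Fact (Nat.Prime 3) := ⟨Nat.prime_three⟩
    exact hl (Or.inr (Or.inr (Or.inl ⟨K, inferInstance, inferInstance, charP_of_card_eq_prime_pow (f := 2) hK, 3, 3, hK,
      le_rfl, by omega, he⟩)))
  · obtain ⟨K, _, _, hK, he⟩ := h3
    have : Fact (Nat.Prime 3) := ⟨Nat.prime_three⟩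
    exact hl (Or.inr (Or.inr (Or.inr (Or.inr (Or.inr (Or.inr (Or.inl ⟨K, inferInstance, inferInstance,
      charP_of_card_eq_prime_pow (f := 1) (by rw [hK]; norm_num), Or.inl ⟨hK.ge, he⟩⟩)))))))

/-- sporadic groups -/
theorem five_dvd {T : Type} [Group T] (h : IsSporadicGroup T) : 5 ∣ Nat.card T := by
  have key : ∀ g : OrdDiv.Grp, g ∈ OrdDiv.spor.map (fun x => x.1) → g ≠ OrdDiv.Grp.tits → OrdDiv.Real g T →
      5 ∣ Nat.card T := by
    intro g hg hg1 hr
    obtain ⟨x, hx, rfl⟩ := List.mem_map.1 hg
    rw [OrdDiv.table.spor T x hx hr]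
    have h5 : ∀ x ∈ OrdDiv.spor, x.1 ≠ OrdDiv.Grp.tits → 5 ∣ x.2 := by decide +kernel
    exact h5 x hx hg1
  rcases h with h | h | h | h | h | h | h | h | h | h | h | h | h | h | h | h | h | h | h | h | h | h | h | h | h | h
  · exact key .m11 (by decide) (by decide) h
  · exact key .m12 (by decide) (by decide) h
  · exact key .m22 (by decide) (by decide) h
  · exact key .m23 (by decide) (by decide) h
  · exact key .m24 (by decide) (by decide) h
  · exact key .j1 (by decide) (by decide) h
  · exact key .j2 (by decide) (by decide) h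
  · exact key .j3 (by decide) (by decide) h
  · exact key .j4 (by decide) (by decide) h
  · exact key .co1 (by decide) (by decide) h
  · exact key .co2 (by decide) (by decide) h
  · exact key .co3 (by decide) (by decide) h
  · exact key .mcl (by decide) (by decide) h
  · exact key .hs (by decide) (by decide) h
  · exact key .suz (by decide) (by decide) h
  · exact key .he (by decide) (by decide) h
  · exact key .ru (by decide) (by decide) h
  · exact key .on (by decide) (by decide) h
  · exact key .ly (by decide) (by decide) h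
  · exact key .fi22 (by decide) (by decide) h
  · exact key .fi23 (by decide) (by decide) h
  · exact key .fi24 (by decide) (by decide) h
  · exact key .hn (by decide) (by decide) h
  · exact key .th (by decide) (by decide) h
  · exact key .b (by decide) (by decide) h
  · exact key .m (by decide) (by decide) h

theorem spor_of [Finite G] (hD : Data G) {e : N ≃* (Fin 1 → T)} (_h : EPS H N e) (hs : IsSporadicGroup T) : False := by
  have h1 : Nat.card T ∣ 4245696 := by
    rw [← pow_one (Nat.card T), ← card_N e, ← hD.card]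
    exact Subgroup.card_subgroup_dvd_card N
  exact absurd ((five_dvd hs).trans h1) (by norm_num)

/-- **S5745, `G₂(3)`: socle of another characteristic** -/
theorem cross_three (F : Type) [Field F] [Fintype F] [IsSimpleGroup ↥(Lie.chevG2.group F)] (hF : Fintype.card F = 3) :
    Cross 3 ↥(Lie.chevG2.group F) := by
  intro H N T _ e h _ hl
  have : Finite ↥(Lie.chevG2.group F) := inferInstance
  exact cross_of (data_chev F hF) h hl

/-- **S5745, `G₂(3)`: sporadic socle** -/
theorem spor_three (F : Type) [Field F] [Fintype F] (hF : Fintype.card F = 3) : Spor ↥(Lie.chevG2.group F) := by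
  intro H N T _ e h hs
  have : Finite ↥(Lie.chevG2.group F) := inferInstance
  exact spor_of (data_chev F hF) h hs

/-- **S5745, `G₂(3)`: socle `T ^ k`, `k ≥ 2`** (any `T`) -/
theorem crossk_three (F : Type) [Field F] [Fintype F] (hF : Fintype.card F = 3) : CrossK 3 ↥(Lie.chevG2.group F) := by
  intro H N T _ k e hk h _
  have : Finite ↥(Lie.chevG2.group F) := inferInstance
  exact crossk_of (data_chev F hF) hk h

end Cfsg.Agent.H347.EPX.GThree
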