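import Cfsg.Agent.H470.EPO.OwnCells
import Cfsg.Agent.H347.EPX.U3Data
import Cfsg.Agent.H347.EPX.Eight

/-!
# S5745, own characteristic: `U₃(3)` in `G₂(3)` and `U₃(5)` in `G₂(5)` (helper347; argument of helper157, helper470)

`exists_y'` : the element `y ∉ H` of `p`-power order which centralises the torus (copy of the first half of helper470's
`exists_y`, without hypotheses on `T`); `kill_u3`.
-/

set_option autoImplicit false
set_option linter.unusedSectionVars false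

namespace Cfsg.Agent.H347.EPX

open Cfsg.Agent.H284 Cfsg.Agent.H284.EPT Cfsg.Agent.H737.EPO Cfsg.Agent.H209.EPX Cfsg.Agent.KFacts.RgdFilt
open Cfsg.Agent.H470.EPO Cfsg.Agent.H542.EPX
open Cfsg.Agent.ChevalleyStructure.CoxeterGeomTypes Cfsg.Agent.Nodes.RGDChev

section Y

variable {G T : Type*} [Group G] [Finite G] [Group T] [Finite T] [IsSimpleGroup T] {H N : Subgroup G} {k : ℕ}
  (e : N ≃* (Fin k → T)) {p : ℕ} [Fact p.Prime] (D : R1 p T)

/-- **the element `y`** -/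
theorem exists_y' (hY : ∃ a b : T, a * b ≠ b * a) (h : EP H) (hN : MinN N H)
    (hDQ : DQ (p := p) H e D.psys fun _ => ∅) :
    ∃ y : G, y ∉ H ∧ (∀ t ∈ TT e D, y * t = t * y) ∧ ∃ m : ℕ, y ^ p ^ m = 1 := by
  obtain ⟨E, Q, hVE, hEM, hEp, hEn, hQp, hQn, hEQ, hQH, hQE⟩ := hDQ
  obtain ⟨W, hWQ, hWE, v⟩ := exists_vecB (Fact.out : p.Prime) hEn hQp hQn hEQ hQH hQE
  set M := PH H e D.psys fun _ => ∅ with hMdef
  have hMH : M ≤ H := inf_le_left
  have hEH : E ≤ H := hEM.trans hMH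
  have hone : ∀ x ∈ W, x ∉ E → H ⊓ cj x H = M := by
    intro x hx hxE
    refine two_over_U e D hY h hN ⟨x, v.notMem_H hx hxE, rfl⟩ (hVE.trans (le_inf hEH ?_))
    have h1 : cj x E = E := cj_eq_of_nm (v.WD x hx)
    rw [← h1]
    exact cj_mono hEH
  have hcj : ∀ x ∈ W, x ∉ E → cj x M = M := by
    intro x hx hxE
    have h1 := hone x hx hxE
    have h2 := hone x⁻¹ (inv_mem hx) (fun h3 => hxE (by have := inv_mem h3; rwa [inv_inv] at this))
    conv_lhs => rw [← h2]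
    rw [cj_inf, cj_cj_inv, inf_comm]
    exact h1
  have hTM : TT e D ≤ M := (TT_le_PP e D).trans (PP_le_PH e _ hN.le _)
  -- the fixed points of `TT` on `W`
  have hcomm : ⁅W, TT e D⁆ ≤ E := by
    rw [Subgroup.commutator_le]
    intro x hx t ht
    rw [commutatorElement_def]
    by_cases hxE : x ∈ E
    · have h1 := v.Wn t (hTM ht) x⁻¹ (inv_mem hx)
      have h2 := hEn t (hTM ht) x⁻¹ (inv_mem hxE)
      have e1 : x * t * x⁻¹ * t⁻¹ = x * (t * x⁻¹ * t⁻¹) := by group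
      rw [e1]
      exact mul_mem hxE h2
    · have h1 := v.Wn t (hTM ht) x⁻¹ (inv_mem hx)
      have h3 : x * t * x⁻¹ * t⁻¹ ∈ W := by
        have e1 : x * t * x⁻¹ * t⁻¹ = x * (t * x⁻¹ * t⁻¹) := by group
        rw [e1]
        exact mul_mem hx h1
      have h4 : x * t * x⁻¹ ∈ M := by
        rw [← hcj x hx hxE]
        exact conj_mem_cj (hTM ht)
      rw [← v.WH]
      exact ⟨h3, H.mul_mem (hMH h4) (H.inv_mem (hMH (hTM ht)))⟩
  have hWp : IsPGroup p W := hQp.to_le hWQ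
  have hnW : TT e D ≤ Subgroup.normalizer (W : Set G) := by
    intro t ht
    rw [Subgroup.mem_normalizer_iff_map_conj_eq]
    exact cj_eq_of_nm (v.Wn t (hTM ht))
  have hfin := Cfsg.Agent.S0026.result (TT e D) W hnW (TT_coprime e D hWp) (Or.inr (by
    have := hWp.isNilpotent
    infer_instance))
  obtain ⟨y, hy, hyE⟩ : ∃ y ∈ W ⊓ Subgroup.centralizer (TT e D : Set G), y ∉ E := by
    by_contra hcon
    push Not at hcon
    apply hWE
    apply le_antisymm _ v.DW
    rw [← hfin]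
    exact sup_le hcomm hcon
  have hyT : ∀ t ∈ TT e D, y * t = t * y := fun t ht => (Subgroup.mem_centralizer_iff.1 hy.2 t ht).symm
  refine ⟨y, v.notMem_H hy.1 hyE, hyT, ?_⟩
  obtain ⟨m, hm⟩ := hWp ⟨y, hy.1⟩
  exact ⟨m, by simpa using congrArg Subtype.val hm⟩

end Y

/-- **the element `y` of order `p`**, `G` simple with `HasFilt p G` -/
theorem exists_y_G {G : Type*} [Group G] [Finite G] [IsSimpleGroup G] {H N : Subgroup G} {T : Type} [Group T]
    {e : N ≃* (Fin 1 → T)} (h : EPS H N e) {p : ℕ} [Fact p.Prime] (hG : HasFilt p G) (D : R1 p T) :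
    ∃ y : G, y ≠ 1 ∧ y ^ p = 1 ∧ ∀ t ∈ D.T0, y * sg e 0 t = sg e 0 t * y := by
  have := h.simple
  have hfin : Finite T := by
    have h1 : Finite (Fin 1 → T) := Finite.of_equiv N e.toEquiv
    exact Finite.of_surjective (fun f : Fin 1 → T => f 0) fun t => ⟨fun _ => t, rfl⟩
  have hnab : ∃ a b : G, a * b ≠ b * a := by
    obtain ⟨a, b, hab⟩ := h.nab
    refine ⟨(e.symm (fun _ => a) : N), (e.symm (fun _ => b) : N), fun h3 => hab ?_⟩
    have h4 : e.symm (fun _ => a) * e.symm (fun _ => b) = e.symm (fun _ => b) * e.symm (fun _ => a) := Subtype.ext h3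
    rw [← map_mul, ← map_mul] at h4
    exact congrFun (e.symm.injective h4) 0
  obtain ⟨y, hyH, hyT, m, hm⟩ := exists_y' e D h.nab h.ep h.toMinN
    (dq_of h hG hnab (j := MonoidHom.id G) Function.injective_id
      (by rw [MonoidHom.range_eq_top.2 (fun x => ⟨x, rfl⟩)]; infer_instance)
      (by rw [MonoidHom.range_eq_top.2 (fun x => ⟨x, rfl⟩)]; exact le_top) D.psys e (fun _ => ∅)
      (VV_ne_bot e (i := 0) Set.empty_ne_univ))
  have hy1 : y ≠ 1 := fun h1 => hyH (h1 ▸ one_mem H)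
  have hex : ∃ m : ℕ, y ^ p ^ m = 1 := ⟨m, hm⟩
  classical
  obtain ⟨j, hj⟩ : ∃ j, Nat.find hex = j + 1 := by
    refine Nat.exists_eq_succ_of_ne_zero fun h0 => ?_
    have h1 := Nat.find_spec hex
    rw [h0, pow_zero, pow_one] at h1
    exact hy1 h1
  refine ⟨y ^ p ^ j, Nat.find_min hex (by omega), ?_, fun t ht => ?_⟩
  · rw [← pow_mul, ← pow_succ, ← hj]
    exact Nat.find_spec hex
  · have h1 : sg e 0 t ∈ TT e D := (sg_mem_pk e).2 ht
    exact ((show Commute y (sg e 0 t) from hyT _ h1).pow_left _).eq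

/-- `U₃(3)`, `U₃(5)`: the torus contains an element of order 8 -/
theorem exists_eight {p : ℕ} [Fact p.Prime] (hp : p = 3 ∨ p = 5) {K : Type} [Field K] [Fintype K] [CharP K p]
    (hK : Fintype.card K = p ^ 2) {T : Type} [Group T] (f : T ≃* PSU 3 K p) :
    ∃ (D : R1 p T) (t : T), t ∈ D.T0 ∧ orderOf t = 8 := by
  have h3p : 3 ≤ p := by rcases hp with rfl | rfl <;> norm_num
  let σ : K →+* K := frobenius K p
  have hs : ∀ x, σ x = x ^ p := fun x => rfl
  have hσ : Fact (∀ x, σ (σ x) = x) := ⟨fun x => by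
    rw [hs, hs, ← pow_mul, ← pow_two, ← hK]
    exact FiniteField.pow_card x⟩
  obtain ⟨π, hsur, hker⟩ := H212.U3.Model.exists_pi (F := K) (σ := σ) (by omega) hs (by
    rw [Nat.card_eq_fintype_card, hK])
  let π' : Cfsg.Agent.UThreeGen.MatGroup.SUG σ →* T := f.symm.toMonoidHom.comp π
  have C : U3.Ctx p σ π' := ⟨h3p, hK, hs, f.symm.surjective.comp hsur, fun g => by
    rw [← hker]
    show f.symm (π g) = 1 ↔ π g = 1
    exact map_eq_one_iff f.symm f.symm.injective⟩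
  obtain ⟨l, hl⟩ := IsCyclic.exists_generator (α := Kˣ)
  have hol : orderOf l = p ^ 2 - 1 := by
    rw [orderOf_eq_card_of_forall_mem_zpowers hl, Nat.card_units, Nat.card_eq_fintype_card, hK]
  have hpow : ∀ n : ℕ, (π' (Cfsg.Agent.HKS.EndU.tor σ l)) ^ n = 1 ↔ l ^ (n * (p - 2)) = 1 := by
    intro n
    rw [← map_pow, ← map_pow, C.pi_eq_one, hs, ← Units.val_pow_eq_pow_val, ← Units.val_pow_eq_pow_val, ← Units.ext_iff,
      ← pow_mul, ← pow_mul]
    have e1 : n * p = n * 2 + n * (p - 2) := by rw [← mul_add]; congr 1; omega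
    rw [e1, pow_add]
    constructor
    · intro h1
      exact (mul_eq_left.1 h1.symm)
    · intro h1
      rw [h1, mul_one]
  refine ⟨C.dat p, π' (Cfsg.Agent.HKS.EndU.tor σ l), (C.mem_T0 p).2 ⟨l, rfl⟩, ?_⟩
  have h8 : (π' (Cfsg.Agent.HKS.EndU.tor σ l)) ^ 2 ^ (2 + 1) = 1 := by
    rw [hpow, ← orderOf_dvd_iff_pow_eq_one, hol]
    rcases hp with rfl | rfl <;> norm_num
  have h4 : ¬ (π' (Cfsg.Agent.HKS.EndU.tor σ l)) ^ 2 ^ 2 = 1 := by
    rw [hpow, ← orderOf_dvd_iff_pow_eq_one, hol]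
    rcases hp with rfl | rfl <;> norm_num
  have := orderOf_eq_prime_pow h4 h8
  rw [this]
  norm_num

/-- **`U₃(p)` in `G₂(p)`, `p = 3, 5`** -/
theorem kill_u3 {F : Type} [Field F] [Fintype F] [IsSimpleGroup ↥(Lie.chevG2.group F)] {p : ℕ} [Fact p.Prime]
    [CharP F p] (hp : p = 3 ∨ p = 5) (hF : Fintype.card F = p) {H N : Subgroup ↥(Lie.chevG2.group F)}
    {T : Type} [Group T] {e : N ≃* (Fin 1 → T)} (h : EPS H N e) {K : Type} [Field K] [Fintype K] [CharP K p]
    (hK : Fintype.card K = p ^ 2) (f : T ≃* PSU 3 K p) : False := by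
  obtain ⟨D, t, ht, ht8⟩ := exists_eight hp hK f
  obtain ⟨y, hy1, hyp, hyt⟩ := exists_y_G h (p := p)
    (Cfsg.Agent.H218.OWN.fq_group (by simp [IsType, typeList] : IsType Lie.chevG2 2 CoxeterMatrix.G₂) F p).hasFilt D
  refine hy1 (eight F hp hF (t := sg e 0 t) ?_ hyp (hyt t ht).symm)
  rw [← ht8]
  have hfin : Finite T := by
    have h1 : Finite (Fin 1 → T) := Finite.of_equiv N e.toEquiv
    exact Finite.of_surjective (fun f : Fin 1 → T => f 0) fun t => ⟨fun _ => t, rfl⟩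
  have := h.simple
  exact orderOf_injective (sg e 0) (fun a b hab => sg_inj e hab) t

end Cfsg.Agent.H347.EPX
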