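import Cfsg.Agent.H742.EX.EPi
import Cfsg.Agent.SmallSimple.BurnsideNC
import Cfsg.Agent.H188.Der.Grp

/-!
# Maximal subgroups of groups with socle of order 504 or 1092 (helper347, for S5745)
-/

set_option autoImplicit false

namespace Cfsg.Agent.H347.EPX

open Subgroup Cfsg.Agent.H742.EX

section A504

variable {A : Type*} [Group A] [Finite A] {N M : Subgroup A}

theorem card_inf (hN : N.Normal) (hM : IsCoatom M) (hNM : ¬ N ≤ M) :
    Nat.card (M ⊓ N : Subgroup A) * N.index = Nat.card M := by
  have htop : M ⊔ N = ⊤ := hM.2 _ (lt_of_le_of_ne le_sup_left fun e => hNM (by rw [e]; exact le_sup_right))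
  have h1 : N.relIndex (M ⊔ N) = N.relIndex M := Subgroup.relIndex_sup_right M N
  rw [htop, relIndex_top_right] at h1
  have h2 := Subgroup.relIndex_mul_relIndex ⊥ (M ⊓ N) M bot_le inf_le_left
  rw [relIndex_bot_left, relIndex_bot_left, inf_relIndex_left, ← h1] at h2
  exact h2

/-- a `3`-group is not maximal -/
theorem not_three (hN : N.Normal) (hs : IsSimpleGroup N) (hc : Nat.card N = 504)
    (hA : Nat.card A = 504 ∨ Nat.card A = 1512) (hM : IsCoatom M) (h3 : IsPGroup 3 M) : False := by
  have : Fact (Nat.Prime 3) := ⟨Nat.prime_three⟩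
  obtain ⟨P, hP⟩ := h3.exists_le_sylow
  have h7 : 7 ∣ Nat.card A := by rcases hA with h | h <;> rw [h] <;> norm_num
  have hn7 : ∀ L : Subgroup A, IsPGroup 3 L → ¬ 7 ∣ Nat.card L := by
    intro L hL h
    obtain ⟨k, hk⟩ := hL.exists_card_eq
    rw [hk] at h
    have := (Nat.prime_dvd_prime_iff_eq (by norm_num) Nat.prime_three).1 ((by norm_num : Nat.Prime 7).dvd_of_dvd_pow h)
    omega
  have hPM : (P : Subgroup A) = M := by
    rcases hM.le_iff.1 hP with h | h
    · exfalso
      refine hn7 _ P.isPGroup' ?_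
      rw [h, Subgroup.card_top]
      exact h7
    · exact h
  have hNM : ¬ N ≤ M := by
    intro h
    refine hn7 M h3 (dvd_trans ?_ (Subgroup.card_dvd_of_le h))
    rw [hc]; norm_num
  have hci := card_inf hN hM hNM
  have hidx := N.card_mul_index
  rw [hc] at hidx
  have hcM : Nat.card M = 3 ^ (Nat.card A).factorization 3 := by
    rw [← hPM]
    exact P.card_eq_multiplicity
  have h504 : Nat.factorization 504 3 = 2 := by
    rw [show (504 : ℕ) = 3 ^ 2 * 56 by norm_num, Nat.factorization_mul (by norm_num) (by norm_num),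
      Nat.Prime.factorization_pow Nat.prime_three]
    simp [Nat.factorization_eq_zero_of_not_dvd (show ¬ 3 ∣ 56 by norm_num)]
  have h1512 : Nat.factorization 1512 3 = 3 := by
    rw [show (1512 : ℕ) = 3 ^ 3 * 56 by norm_num, Nat.factorization_mul (by norm_num) (by norm_num),
      Nat.Prime.factorization_pow Nat.prime_three]
    simp [Nat.factorization_eq_zero_of_not_dvd (show ¬ 3 ∣ 56 by norm_num)]
  have h9 : Nat.card (M ⊓ N : Subgroup A) = 9 := by
    rcases hA with h | h
    · rw [h] at hidx hcM
      rw [h504] at hcM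
      have : N.index = 1 := by omega
      rw [this, hcM] at hci
      omega
    · rw [h] at hidx hcM
      rw [h1512] at hcM
      have : N.index = 3 := by omega
      rw [this, hcM] at hci
      omega
  have hcS : Nat.card (M.subgroupOf N) = 9 := by
    have h1 : (M ⊓ N : Subgroup A).subgroupOf N = M.subgroupOf N := inf_subgroupOf_right M N
    rw [← h1, Nat.card_congr (Subgroup.subgroupOfEquivOfLe inf_le_right).toEquiv, h9]
  let S : Sylow 3 N := Sylow.ofCard (M.subgroupOf N) (by rw [hcS, hc, h504]; norm_num)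
  refine SmallSimple.BurnsideNC.not_normalizer_le_centralizer (p := 3) (by rw [hc]; norm_num) (by rw [hc]; norm_num) S ?_
  intro y hy
  have hS : ((S : Subgroup N)) = M.subgroupOf N := rfl
  -- the normalizer of `M ⊓ N`
  have hMn : M ≤ Subgroup.normalizer ((M ⊓ N : Subgroup A) : Set A) := by
    intro m hm
    rw [Subgroup.mem_normalizer_iff]
    intro k
    constructor
    · rintro ⟨h1, h2⟩
      exact ⟨M.mul_mem (M.mul_mem hm h1) (M.inv_mem hm), hN.conj_mem k h2 m⟩
    · rintro ⟨h1, h2⟩
      have e : k = m⁻¹ * (m * k * m⁻¹) * m := by group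
      refine ⟨?_, ?_⟩
      · rw [e]; exact M.mul_mem (M.mul_mem (M.inv_mem hm) h1) hm
      · have := hN.conj_mem _ h2 m⁻¹
        rw [inv_inv] at this
        rw [e]; exact this
  have hnt : Subgroup.normalizer ((M ⊓ N : Subgroup A) : Set A) = M := by
    rcases hM.le_iff.1 hMn with h | h
    · exfalso
      rw [Subgroup.normalizer_eq_top_iff] at h
      have h1 : ((M ⊓ N : Subgroup A).subgroupOf N).Normal := h.subgroupOf N
      rw [inf_subgroupOf_right] at h1
      rcases h1.eq_bot_or_eq_top with h2 | h2
      · rw [h2, Subgroup.card_bot] at hcS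
        omega
      · rw [h2, Subgroup.card_top, hc] at hcS
        omega
    · exact h
  have hyM : (y : A) ∈ M := by
    rw [← hnt, Subgroup.mem_normalizer_iff]
    intro k
    constructor
    · rintro ⟨h1, h2⟩
      have h3 := (Subgroup.mem_normalizer_iff.1 hy ⟨k, h2⟩).1 h1
      exact ⟨h3, hN.conj_mem k h2 y⟩
    · rintro ⟨h1, h2⟩
      have hk : k ∈ N := by
        have := hN.conj_mem _ h2 (y : A)⁻¹
        have e : k = (y : A)⁻¹ * ((y : A) * k * (y : A)⁻¹) * (y : A)⁻¹⁻¹ := by group
        rw [e]; exact this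
      exact ⟨(Subgroup.mem_normalizer_iff.1 hy ⟨k, hk⟩).2 h1, hk⟩
  have hcomm := IsPGroup.commutative_of_card_eq_prime_sq (p := 3) (G := M.subgroupOf N) (by rw [hcS]; norm_num)
  rw [Subgroup.mem_centralizer_iff]
  intro z hz
  have h1 := hcomm ⟨z, hz⟩ ⟨y, hyM⟩
  exact congrArg Subtype.val h1

/-- every maximal subgroup has order divisible by 2 or 7 -/
theorem dvd_504 (hN : N.Normal) (hs : IsSimpleGroup N) (hc : Nat.card N = 504)
    (hA : Nat.card A = 504 ∨ Nat.card A = 1512) (hM : IsCoatom M) : 2 ∣ Nat.card M ∨ 7 ∣ Nat.card M := by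
  by_contra hcon
  push Not at hcon
  have hd : Nat.card M ∣ 1512 := by
    have h1 := Subgroup.card_subgroup_dvd_card M
    rcases hA with h | h
    · rw [h] at h1; exact h1.trans (by norm_num)
    · rwa [h] at h1
  have hco : (Nat.card M).Coprime 56 := by
    rw [show (56 : ℕ) = 2 ^ 3 * 7 by norm_num]
    exact Nat.Coprime.mul_right (Nat.Coprime.pow_right 3 ((Nat.Prime.coprime_iff_not_dvd Nat.prime_two).2 hcon.1).symm)
      ((Nat.Prime.coprime_iff_not_dvd (by norm_num)).2 hcon.2).symm
  have h27 : Nat.card M ∣ 3 ^ 3 := hco.dvd_of_dvd_mul_right (by norm_num; exact hd)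
  obtain ⟨k, -, hk⟩ := (Nat.dvd_prime_pow Nat.prime_three).1 h27
  exact not_three hN hs hc hA hM (IsPGroup.of_card hk)

end A504

section A1092

variable {T : Type*} [Group T] [Finite T] [hsT : IsSimpleGroup T]

theorem simple_normal {K : Subgroup T} (hK : K.Normal) {m : ℕ} (hm : Nat.card K = m) (h1 : m ≠ 1)
    (h2 : m ≠ Nat.card T) : False := by
  rcases hK.eq_bot_or_eq_top with h | h
  · rw [h, Subgroup.card_bot] at hm
    exact h1 hm.symm
  · rw [h, Subgroup.card_top] at hm
    exact h2 hm.symm

/-- the normalizer of a Sylow `r`-subgroup `E` of a maximal subgroup of odd order -/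
theorem odd_false (hc : Nat.card T = 1092) {M : Subgroup T} (hM : IsCoatom M) (h2 : ¬ 2 ∣ Nat.card M) : False := by
  have hd : Nat.card M ∣ 273 := by
    have h1 := Subgroup.card_subgroup_dvd_card M
    rw [hc] at h1
    have h3 : (Nat.card M).Coprime 4 := by
      rw [show (4 : ℕ) = 2 ^ 2 by norm_num]
      exact Nat.Coprime.pow_right 2 ((Nat.Prime.coprime_iff_not_dvd Nat.prime_two).2 h2).symm
    exact h3.dvd_of_dvd_mul_left (by norm_num; exact h1)
  have hM1 : Nat.card M ≠ 1 := by
    intro h
    rw [Subgroup.card_eq_one] at h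
    obtain ⟨t, ht⟩ := exists_prime_orderOf_dvd_card' (G := T) 2 (by rw [hc]; norm_num)
    rw [h] at hM
    rcases hM.le_iff.1 (bot_le : ⊥ ≤ zpowers t) with h3 | h3
    · have h4 : Nat.card (zpowers t) = 1092 := by rw [h3, Subgroup.card_top, hc]
      rw [Nat.card_zpowers, ht] at h4
      omega
    · have h4 : Nat.card (zpowers t) = 1 := by rw [h3, Subgroup.card_bot]
      rw [Nat.card_zpowers, ht] at h4
      omega
  -- a normal Sylow subgroup of prime order
  have key : ∀ r : ℕ, r.Prime → r ∣ Nat.card M → ¬ r ^ 2 ∣ 1092 → (∀ n, n ∣ Nat.card M / r → n % r = 1 % r → n = 1) →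
      (∀ n, n * Nat.card M = 1092 → n % r = 1 % r → Nat.card M = r) → False := by
    intro r hr hrM hr2 hn hN
    have : Fact r.Prime := ⟨hr⟩
    obtain ⟨x, hx⟩ := exists_prime_orderOf_dvd_card' (G := M) r hrM
    have hx' : orderOf (x : T) = r := by rw [Subgroup.orderOf_coe, hx]
    obtain ⟨P, hP⟩ := Cfsg.Agent.H188.Der.exists_sylow_zpowers (p := r) (k := 1) (y := x) (by rw [pow_one, hx]) (by
      intro h
      apply hr2
      have := h.trans (Subgroup.card_subgroup_dvd_card M)
      rwa [hc] at this)
    obtain ⟨P', hP'⟩ := Cfsg.Agent.H188.Der.exists_sylow_zpowers (p := r) (k := 1) (y := (x : T)) (by rw [pow_one, hx'])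
      (by rw [hc]; exact hr2)
    have hcP : Nat.card (P : Subgroup M) = r := by rw [hP, Nat.card_zpowers, hx]
    have hPn : (P : Subgroup M).Normal := by
      have h1 : Nat.card (Sylow r M) = 1 := by
        apply hn
        · have h3 := P.card_dvd_index
          have h4 := (P : Subgroup M).card_mul_index
          rw [hcP] at h4
          have h5 : (P : Subgroup M).index = Nat.card M / r := by
            rw [← h4, Nat.mul_div_cancel_left _ hr.pos]
          rwa [h5] at h3
        · exact card_sylow_modEq_one r M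
      have : Subsingleton (Sylow r M) := (Nat.card_eq_one_iff_unique.1 h1).1
      exact P.normal_of_subsingleton
    -- `M` is the normalizer
    have hMle : M ≤ Subgroup.normalizer ((P' : Subgroup T) : Set T) := by
      intro m hm
      rw [hP']
      have h1 : (⟨m, hm⟩ : M) * x * (⟨m, hm⟩ : M)⁻¹ ∈ (P : Subgroup M) := hPn.conj_mem x (by
        rw [hP]; exact mem_zpowers x) _
      rw [hP] at h1
      obtain ⟨i, hi⟩ := mem_zpowers_iff.1 h1
      apply Cfsg.Agent.H439.Der.mem_normalizer_of
      exact mem_zpowers_iff.2 ⟨i, congrArg Subtype.val hi⟩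
    have hcP' : Nat.card (P' : Subgroup T) = r := by rw [hP', Nat.card_zpowers, hx']
    have hne : Subgroup.normalizer ((P' : Subgroup T) : Set T) = M := by
      rcases hM.le_iff.1 hMle with h | h
      · exfalso
        rw [Subgroup.normalizer_eq_top_iff] at h
        refine simple_normal h hcP' hr.one_lt.ne' ?_
        rw [hc]
        rintro rfl
        exact absurd hr (by norm_num)
      · exact h
    have hne' : Subgroup.normalizer (P' : Set T) = M := hne
    have hsyl := SmallSimple.BurnsideNC.card_sylow_mul_card_normalizer P'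
    rw [hne', hc] at hsyl
    have hcM := hN _ hsyl (card_sylow_modEq_one r T)
    have hMP : M = (P' : Subgroup T) := by
      refine (Subgroup.eq_of_le_of_card_ge ?_ (by rw [hcM, hcP'])).symm
      rw [hP', zpowers_le]
      exact x.2
    refine SmallSimple.BurnsideNC.not_normalizer_le_centralizer (p := r) (by
      rw [hc]
      have := hrM.trans (Subgroup.card_subgroup_dvd_card M)
      rwa [hc] at this) (by
        rw [hc]
        rintro rfl
        exact absurd hr (by norm_num)) P' ?_
    rw [hne', hMP]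
    intro y hy
    rw [hP'] at hy
    rw [Subgroup.mem_centralizer_iff]
    intro z hz
    have hz' : z ∈ (P' : Subgroup T) := hz
    rw [hP'] at hz'
    obtain ⟨i, rfl⟩ := mem_zpowers_iff.1 hy
    obtain ⟨j, rfl⟩ := mem_zpowers_iff.1 hz'
    rw [← zpow_add, ← zpow_add, add_comm]
  have hlist : Nat.card M ∈ Nat.divisors 273 := by
    rw [Nat.mem_divisors]; exact ⟨hd, by norm_num⟩
  have hdl : Nat.divisors 273 = {1, 3, 7, 13, 21, 39, 91, 273} := by decide +kernel
  rw [hdl] at hlist
  simp only [Finset.mem_insert, Finset.mem_singleton] at hlist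
  have hdiv : ∀ m n : ℕ, 0 < m → n ∣ m → n ≤ m := fun m n h h' => Nat.le_of_dvd h h'
  rcases hlist with h | h | h | h | h | h | h | h
  · exact hM1 h
  · refine key 3 Nat.prime_three (by rw [h]) (by norm_num) (fun n h1 _ => ?_) (fun n _ _ => h)
    rw [h] at h1; simpa using h1
  · refine key 7 (by norm_num) (by rw [h]) (by norm_num) (fun n h1 _ => ?_) (fun n _ _ => h)
    rw [h] at h1; simpa using h1
  · refine key 13 (by norm_num) (by rw [h]) (by norm_num) (fun n h1 _ => ?_) (fun n _ _ => h)
    rw [h] at h1; simpa using h1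
  · refine key 7 (by norm_num) (by rw [h]; norm_num) (by norm_num) (fun n h1 h2 => ?_) (fun n h1 h2 => ?_)
    · rw [h] at h1
      have := hdiv 3 n (by norm_num) h1
      interval_cases n <;> revert h2 <;> decide
    · rw [h] at h1; omega
  · refine key 13 (by norm_num) (by rw [h]; norm_num) (by norm_num) (fun n h1 h2 => ?_) (fun n h1 h2 => ?_)
    · rw [h] at h1
      have := hdiv 3 n (by norm_num) h1
      interval_cases n <;> revert h2 <;> decide
    · rw [h] at h1; omega
  · refine key 13 (by norm_num) (by rw [h]; norm_num) (by norm_num) (fun n h1 h2 => ?_) (fun n h1 h2 => ?_)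
    · rw [h] at h1
      have := hdiv 7 n (by norm_num) h1
      interval_cases n <;> revert h2 <;> decide
    · rw [h] at h1; omega
  · refine key 13 (by norm_num) (by rw [h]; norm_num) (by norm_num) (fun n h1 h2 => ?_) (fun n h1 h2 => ?_)
    · rw [h] at h1
      have := hdiv 21 n (by norm_num) h1
      interval_cases n <;> revert h2 h1 <;> decide
    · rw [h] at h1; omega

end A1092

end Cfsg.Agent.H347.EPX
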